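import Cfsg.Agent.RegUnip.Prime

/-!
# `SL₃` is generated by two conjugate regular unipotent elements
-/

set_option autoImplicit false

namespace CfsgLib.RegUnip

open Matrix Cfsg Cfsg.Geo CfsgLib.Geo Finset

variable {F : Type*} [Field F] [Fintype F]

/-- The predicate: two conjugates of the Jordan block generate. -/
def TwoConj (F : Type*) [Field F] : Prop :=
  ∃ g : Matrix.SpecialLinearGroup (Fin 3) F,
    Subgroup.closure ({uSL, g * uSL * g⁻¹} : Set (Matrix.SpecialLinearGroup (Fin 3) F)) = ⊤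

theorem closure_inv_eq_top {x : F} (hx : Subring.closure ({x} : Set F) = ⊤) :
    Subring.closure ({x⁻¹} : Set F) = ⊤ := by
  refine top_le_iff.1 (hx ▸ Subring.closure_le.2 (Set.singleton_subset_iff.2 ?_))
  rcases eq_or_ne x 0 with rfl | hx0
  · simp only [_root_.inv_zero, SetLike.mem_coe, zero_mem]
  · have h1 := FiniteField.pow_card_sub_one_eq_one x⁻¹ (inv_ne_zero hx0)
    have h2 : x = x⁻¹ ^ (Fintype.card F - 2) := by
      refine mul_left_cancel₀ (inv_ne_zero hx0) ?_
      rw [inv_mul_cancel₀ hx0, ← pow_succ', show Fintype.card F - 2 + 1 = Fintype.card F - 1 by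
        have := Fintype.one_lt_card (α := F); omega, h1]
    have h3 : x⁻¹ ^ (Fintype.card F - 2) ∈ Subring.closure ({x⁻¹} : Set F) :=
      pow_mem (Subring.subset_closure (Set.mem_singleton _)) _
    rwa [← h2] at h3

/-- The odd design at a parameter `x`. -/
theorem twoConj_of_param (h2 : (2 : F) ≠ 0) (hp : ¬ (Fintype.card F).Prime) (x : F)
    (hD : x ^ 2 + 3 ≠ 0) (hx : x ^ 2 ≠ 1)
    (hgen : Subring.closure ({((x ^ 2 - 1) / (x ^ 2 + 3)) ^ 3} : Set F) = ⊤) : TwoConj F := by
  obtain ⟨l, hl⟩ : ∃ l : F, l = (x ^ 2 - 1) / (x ^ 2 + 3) := ⟨_, rfl⟩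
  rw [← hl] at hgen
  have hl0 : l ≠ 0 := hl ▸ div_ne_zero (sub_ne_zero.2 hx) hD
  have hl3 : l ^ 3 ≠ 1 := fun e => intCast_ne_of_generator hp hgen 1 (by simpa using e)
  have hd : l - 1 = -4 / (x ^ 2 + 3) := by rw [hl]; field_simp; ring
  have h4 : (-4 : F) ≠ 0 := by
    rw [show (-4 : F) = -(2 * 2) by norm_num]; exact neg_ne_zero.2 (mul_ne_zero h2 h2)
  have hd0 : l - 1 ≠ 0 := hd ▸ div_ne_zero h4 hD
  have hx1 : 1 + x ≠ 0 := fun e => hx (by linear_combination (x - 1) * e)
  have hx1' : 1 - x ≠ 0 := fun e => hx (by linear_combination (-x - 1) * e)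
  set r : F := (l - 1) ^ 2 * (1 + x) ^ 3 / (2 * l ^ 2 * (x ^ 2 + 3)) with hr
  set c : F := (l - 1) ^ 2 * (1 - x) ^ 3 / (2 * l ^ 2 * (x ^ 2 + 3)) with hc
  have hden : 2 * l ^ 2 * (x ^ 2 + 3) ≠ 0 := mul_ne_zero (mul_ne_zero h2 (pow_ne_zero _ hl0)) hD
  have hr0 : r ≠ 0 := div_ne_zero (mul_ne_zero (pow_ne_zero _ hd0) (pow_ne_zero _ hx1)) hden
  have hc0 : c ≠ 0 := div_ne_zero (mul_ne_zero (pow_ne_zero _ hd0) (pow_ne_zero _ hx1')) hden
  have hlD : l * (x ^ 2 + 3) = x ^ 2 - 1 := by rw [hl]; field_simp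
  have hsum : (r + c) * l ^ 2 = (l - 1) ^ 2 * (2 * l + 1) := by
    rw [hr, hc]
    field_simp
    linear_combination (-4 : F) * hlD
  have hprod : r * c * l = (l - 1) ^ 3 := by
    have hdD : (l - 1) * (x ^ 2 + 3) = -4 := by linear_combination hlD
    have hcube : l ^ 3 * (x ^ 2 + 3) ^ 3 = (x ^ 2 - 1) ^ 3 := by rw [← hlD]; ring
    rw [hr, hc]
    field_simp
    refine mul_left_cancel₀ hD ?_
    linear_combination (1 - x ^ 2) ^ 3 * hdD - 4 * hcube
  obtain ⟨g, hg⟩ := exists_conj_low r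
    (((l - 1) - c) * ((l - 1) - r) - r + (((l - 1) ^ 2 - l * c) + (l - 1) * ((l - 1) - r))) c
    (r * (1 - x) / (1 + x)) hr0 hc0 (by
      rw [hr, hc]; field_simp)
  exact ⟨g, closure_low_eq_top _ hg fun M u w hu hw hu' hw' =>
    three_odd l r c hl0 hl3 hr0 hc0 hsum hprod (inv_pow l 3 ▸ closure_inv_eq_top hgen) hu hw hu' hw'⟩

/-- Parameters whose eigenvalue is bad are few. -/
theorem exists_param {p m : ℕ} (hp : p.Prime) (hq : Fintype.card F = p ^ m) (h5 : 5 ≤ p)
    (hm : 2 ≤ m) (hpm : 7 ≤ p ∨ 3 ≤ m) :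
    ∃ x : F, x ^ 2 + 3 ≠ 0 ∧ x ^ 2 ≠ 1 ∧
      Subring.closure ({((x ^ 2 - 1) / (x ^ 2 + 3)) ^ 3} : Set F) = ⊤ := by
  classical
  let P : Finset F := (Finset.Icc 1 (m / 2)).biUnion fun k =>
    (Polynomial.X ^ (p ^ k) - Polynomial.X : Polynomial F).roots.toFinset
  have hP : 4 * P.card ≤ 5 * p ^ (m / 2) := by
    have h1 : P.card ≤ ∑ k ∈ Finset.Icc 1 (m / 2), p ^ k := by
      refine Finset.card_biUnion_le.trans (Finset.sum_le_sum fun k hk => ?_)
      have hk1 : 1 ≤ k := (Finset.mem_Icc.1 hk).1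
      refine (Multiset.toFinset_card_le _).trans ((Polynomial.card_roots' _).trans ?_)
      exact le_of_eq (FiniteField.X_pow_card_pow_sub_X_natDegree_eq F (by omega) hp.one_lt)
    have h2 : ∀ h, 4 * (∑ k ∈ Finset.Icc 1 h, p ^ k) ≤ 5 * p ^ h := fun h => by
      induction h with
      | zero => simp
      | succ h ih =>
        rw [Finset.sum_Icc_succ_top (by omega : 1 ≤ h + 1), pow_succ]
        have := Nat.mul_le_mul_left (p ^ h) h5
        nlinarith
    exact (Nat.mul_le_mul_left 4 h1).trans (h2 _)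
  have hP' : m / 2 = 1 → P.card ≤ p := fun e => by
    refine Finset.card_biUnion_le.trans ?_
    rw [e, Finset.Icc_self, Finset.sum_singleton]
    refine (Multiset.toFinset_card_le _).trans ((Polynomial.card_roots' _).trans ?_)
    exact le_of_eq ((FiniteField.X_pow_card_pow_sub_X_natDegree_eq F one_ne_zero hp.one_lt).trans (pow_one p))
  let L : F → Finset F := fun b => (Polynomial.nthRoots 3 b).toFinset
  let X : F → Finset F := fun l => (Polynomial.nthRoots 2 ((3 * l + 1) / (1 - l))).toFinset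
  have hcard : ∀ (k : ℕ) (b : F), (Polynomial.nthRoots k b).toFinset.card ≤ k := fun k b =>
    (Multiset.toFinset_card_le _).trans (Polynomial.card_nthRoots k b)
  let B : Finset F := (Polynomial.nthRoots 2 (1 : F)).toFinset ∪ (Polynomial.nthRoots 2 (-3 : F)).toFinset ∪
    (P.biUnion L).biUnion X
  have hB : B.card ≤ 4 + 6 * P.card := by
    refine (Finset.card_union_le _ _).trans (Nat.add_le_add ((Finset.card_union_le _ _).trans
      (Nat.add_le_add (hcard 2 _) (hcard 2 _))) ?_)
    refine (Finset.card_biUnion_le_card_mul _ _ 2 fun a _ => hcard 2 _).trans ?_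
    have := Finset.card_biUnion_le_card_mul P L 3 fun a _ => hcard 3 _
    omega
  have hlt : B.card < Fintype.card F := by
    rw [hq]
    rcases eq_or_ne (m / 2) 1 with e | e
    · have hP1 := hP' e
      have hpp : p * p ≤ p ^ m := by rw [← pow_two]; exact Nat.pow_le_pow_right hp.pos hm
      rcases hpm with h7 | h3
      · nlinarith
      · have : p * p * p ≤ p ^ m := by
          rw [show p * p * p = p ^ 3 by ring]; exact Nat.pow_le_pow_right hp.pos h3
        have h25 : 5 * 5 ≤ p * p := Nat.mul_le_mul h5 h5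
        nlinarith
    · have hh : 2 ≤ m / 2 := by omega
      have h25 : 25 ≤ p ^ (m / 2) :=
        le_trans (by norm_num : 25 ≤ 5 ^ 2) ((Nat.pow_le_pow_left h5 2).trans (Nat.pow_le_pow_right hp.pos hh))
      have hsq : p ^ (m / 2) * p ^ (m / 2) ≤ p ^ m := by
        rw [← pow_add]; exact Nat.pow_le_pow_right hp.pos (by omega)
      nlinarith
  obtain ⟨x, hx⟩ : ∃ x : F, x ∉ B := by
    by_contra hc
    push Not at hc
    rw [Finset.eq_univ_of_forall hc, Finset.card_univ] at hlt
    exact lt_irrefl _ hlt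
  simp only [B, Finset.mem_union, Multiset.mem_toFinset, Polynomial.mem_nthRoots zero_lt_two,
    not_or] at hx
  obtain ⟨⟨hx1, hx3⟩, hxb⟩ := hx
  have hD : x ^ 2 + 3 ≠ 0 := fun e => hx3 (by linear_combination e)
  refine ⟨x, hD, hx1, ?_⟩
  by_contra hbad
  obtain ⟨k, hk1, hkm, hk⟩ := exists_pow_eq_of_not_generator hp hq hbad
  set l : F := (x ^ 2 - 1) / (x ^ 2 + 3) with hl
  refine hxb (Finset.mem_biUnion.2 ⟨l, Finset.mem_biUnion.2 ⟨l ^ 3, ?_, ?_⟩, ?_⟩)
  · refine Finset.mem_biUnion.2 ⟨k, Finset.mem_Icc.2 ⟨hk1, by omega⟩, ?_⟩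
    have hne : (Polynomial.X ^ (p ^ k) - Polynomial.X : Polynomial F) ≠ 0 :=
      FiniteField.X_pow_card_pow_sub_X_ne_zero F (by omega) hp.one_lt
    rw [Multiset.mem_toFinset, Polynomial.mem_roots hne]
    simp [hk]
  · simp [L, Polynomial.mem_nthRoots]
  · simp only [X, Multiset.mem_toFinset, Polynomial.mem_nthRoots zero_lt_two]
    have h2 : (2 : F) ≠ 0 := by
      intro e
      haveI : CharP F p := by
        obtain ⟨p', hp'⟩ := CharP.exists F
        haveI := hp'
        obtain ⟨m', hpp', hm'⟩ := FiniteField.card F p'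
        have : p' = p := (Nat.prime_dvd_prime_iff_eq hpp' hp).1
          (hpp'.dvd_of_dvd_pow (n := m) (by rw [← hq, hm']; exact dvd_pow_self _ m'.pos.ne'))
        exact this ▸ hp'
      have := Nat.le_of_dvd two_pos ((CharP.cast_eq_zero_iff F p 2).1 (by exact_mod_cast e))
      omega
    have h1l : 1 - l ≠ 0 := by
      intro e
      refine mul_ne_zero h2 h2 ?_
      have : l * (x ^ 2 + 3) = x ^ 2 - 1 := by rw [hl]; field_simp
      linear_combination (x ^ 2 + 3) * e + this
    have h4 : (4 : F) ≠ 0 := by rw [show (4 : F) = 2 * 2 by norm_num]; exact mul_ne_zero h2 h2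
    rw [hl]
    field_simp
    ring_nf
    field_simp

/-- The field of twenty-five elements. -/
theorem exists_param_five (h5 : (5 : F) = 0) (hq : Fintype.card F = 5 ^ 2) :
    ∃ x : F, x ^ 2 + 3 ≠ 0 ∧ x ^ 2 ≠ 1 ∧
      Subring.closure ({((x ^ 2 - 1) / (x ^ 2 + 3)) ^ 3} : Set F) = ⊤ := by
  haveI : Fact (Nat.Prime 5) := ⟨by norm_num⟩
  haveI : CharP F 5 := by
    obtain ⟨p, hp⟩ := CharP.exists F
    haveI := hp
    have : p = 5 := (Nat.prime_dvd_prime_iff_eq (CharP.char_is_prime F p) (by norm_num)).1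
      ((CharP.cast_eq_zero_iff F p 5).1 (by exact_mod_cast h5))
    exact this ▸ hp
  have hF : ringChar F ≠ 2 := by rw [ringChar.eq F 5]; norm_num
  have h2 : (2 : F) ≠ 0 := fun e => one_ne_zero (α := F) (by linear_combination h5 - 2 * e)
  obtain ⟨s, hs⟩ := (FiniteField.isSquare_iff hF h2).2 (by
    rw [hq]; norm_num; linear_combination 819 * h5)
  have hs' : s ^ 2 = 2 := by linear_combination -hs
  have hs0 : s ≠ 0 := fun e => h2 (by rw [← hs', e, zero_pow two_ne_zero])
  have h1s : 1 + s ≠ 0 := fun e => one_ne_zero (α := F) (by linear_combination (s - 1) * e - hs')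
  obtain ⟨x, hx⟩ := (FiniteField.isSquare_iff hF h1s).2 (by
    rw [hq]; norm_num
    have e2 : (1 + s) ^ 2 = 3 + 2 * s := by linear_combination hs'
    have e4 : (1 + s) ^ 4 = 2 + 2 * s := by
      linear_combination ((1 + s) ^ 2 + 3 + 2 * s) * e2 + 4 * hs' + (3 + 2 * s) * h5
    have e8 : (1 + s) ^ 8 = 2 + 3 * s := by
      linear_combination ((1 + s) ^ 4 + 2 + 2 * s) * e4 + 4 * hs' + (2 + s) * h5
    linear_combination (1 + s) ^ 4 * e8 + (2 + 3 * s) * e4 + 6 * hs' + (3 + 2 * s) * h5)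
  have hx2 : x ^ 2 = 1 + s := by linear_combination -hx
  have h4s : 4 + s ≠ 0 := fun e => one_ne_zero (α := F) (by
    linear_combination (s - 4) * e - hs' + 3 * h5)
  have hl : (x ^ 2 - 1) / (x ^ 2 + 3) = s + 2 := by
    rw [hx2, div_eq_iff (by intro e; exact h4s (by linear_combination e))]
    linear_combination -hs' - (2 + s) * h5
  refine ⟨x, fun e => h4s (by linear_combination e - hx2), fun e => hs0 (by linear_combination e - hx2), ?_⟩
  rw [hl]
  by_contra hbad
  obtain ⟨k, hk1, hk2, hk⟩ := exists_pow_eq_of_not_generator (p := 5) (m := 2) (by norm_num) hq hbad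
  obtain rfl : k = 1 := by omega
  rw [pow_one, show (s + 2) ^ 3 = -s by linear_combination (s + 6) * hs' + (4 + 3 * s) * h5] at hk
  exact mul_ne_zero (a := (2 : F)) h2 hs0 (by
    linear_combination hk + (s ^ 3 + 2 * s) * hs' + s * h5)

/-- Two conjugate regular unipotent elements generate `SL₃`. -/
theorem twoConj : TwoConj F := by
  by_cases hprime : (Fintype.card F).Prime
  · exact two_conj_prime le_rfl hprime
  obtain ⟨g, hg0, hord, hgen⟩ := exists_primitive (F := F)
  obtain ⟨p, hp⟩ := CharP.exists F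
  haveI := hp
  obtain ⟨m, hpp, hm⟩ := FiniteField.card F p
  have hm2 : 2 ≤ (m : ℕ) := by
    by_contra h
    have hpos := m.pos
    rw [show (m : ℕ) = 1 by omega, pow_one] at hm
    exact hprime (hm ▸ hpp)
  have hpp2 : p * p ≤ Fintype.card F := by
    rw [hm, ← pow_two]; exact Nat.pow_le_pow_right hpp.pos hm2
  by_cases h2 : (2 : F) = 0
  · by_cases h4 : Fintype.card F = 4
    · have h3 : g ^ 3 = 1 := by
        have := pow_orderOf_eq_one g
        rwa [hord, h4] at this
      have hg1 : g ≠ 1 := fun e => by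
        rw [e, orderOf_one, h4] at hord; omega
      have hω : g ^ 2 + g + 1 = 0 := by
        refine (mul_eq_zero.1 ?_).resolve_left (sub_ne_zero.2 hg1)
        linear_combination h3
      obtain ⟨γ, hγ⟩ := exists_conj_low (1 : F) g 1 1 one_ne_zero one_ne_zero (by ring)
      exact ⟨γ, closure_low_eq_top _ hγ fun M u w hu hw hu' hw' => three_four h4 h2 hω hu hw hu' hw'⟩
    · obtain ⟨γ, hγ⟩ := exists_conj_low g 0 g g hg0 hg0 (by ring)
      have hq : 4 < Fintype.card F := by
        have := hpp.two_le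
        have : 2 * 2 ≤ p * p := Nat.mul_le_mul this this
        omega
      exact ⟨γ, closure_low_eq_top _ hγ fun M u w hu hw hu' hw' =>
        three_two h2 hg0 (closure_pow_eq_top hord three_pos (by omega)) hu hw hu' hw'⟩
  have hp2 : p ≠ 2 := fun e => h2 (by exact_mod_cast (CharP.cast_eq_zero_iff F p 2).2 (e ▸ dvd_rfl))
  by_cases hp3 : p = 3
  · subst hp3
    have h3 : (3 : F) = 0 := by exact_mod_cast CharP.cast_eq_zero F 3
    haveI : Fact (Nat.Prime 3) := ⟨hpp⟩
    have hsq : Subring.closure ({g ^ 2} : Set F) = ⊤ :=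
      closure_pow_eq_top hord two_pos (by omega)
    have hl : Subring.closure ({(g ^ 2 - 1) / (g ^ 2 + 3)} : Set F) = ⊤ := by
      rw [h3, add_zero]
      refine top_le_iff.1 (le_trans (closure_inv_eq_top hsq).ge (Subring.closure_le.2
        (Set.singleton_subset_iff.2 ?_)))
      have hg2 : g ^ 2 ≠ 0 := pow_ne_zero _ hg0
      have e : (g ^ 2)⁻¹ = 1 - (g ^ 2 - 1) / g ^ 2 := by field_simp; ring
      change (g ^ 2)⁻¹ ∈ Subring.closure _
      rw [e]
      exact sub_mem (one_mem _) (Subring.subset_closure (Set.mem_singleton _))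
    refine twoConj_of_param h2 hprime g (by rw [h3, add_zero]; exact pow_ne_zero _ hg0) (fun e => ?_) ?_
    · exact intCast_ne_of_generator hprime hsq 1 (by simpa using e)
    by_contra hbad
    obtain ⟨k, hk1, hkm, hk⟩ := exists_pow_eq_of_not_generator hpp hm hbad
    set l : F := (g ^ 2 - 1) / (g ^ 2 + 3) with hldef
    have hk' : l ^ (3 ^ k) = l := frobenius_inj F 3 (by
      rw [frobenius_def, frobenius_def, ← pow_mul, mul_comm, pow_mul]; exact hk)
    -- the fixed points of a power of Frobenius form a proper subring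
    let T : Subring F := (iterateFrobenius F 3 k).eqLocus (RingHom.id F)
    have hT : T = ⊤ := top_le_iff.1 (hl ▸ Subring.closure_le.2 (Set.singleton_subset_iff.2 (by
      change iterateFrobenius F 3 k l = l
      rw [iterateFrobenius_def]; exact hk')))
    have hfix : g ^ (3 ^ k) = g := by
      have : g ∈ T := hT ▸ Subring.mem_top g
      rwa [show (g ∈ T) = (iterateFrobenius F 3 k g = g) from rfl, iterateFrobenius_def] at this
    have hlt : 3 ^ k < Fintype.card F := by
      rw [hm]; exact Nat.pow_lt_pow_right (by norm_num) (by omega)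
    have hk3 : 3 ≤ 3 ^ k := Nat.le_self_pow (by omega) 3
    have hone : g ^ (3 ^ k - 1) = 1 := mul_left_cancel₀ hg0 (by
      rw [← pow_succ', show 3 ^ k - 1 + 1 = 3 ^ k by omega, hfix, mul_one])
    have := orderOf_le_of_pow_eq_one (by omega) hone
    omega
  have h5 : 5 ≤ p := by
    have := hpp.two_le
    by_contra hc
    have : p = 4 := by omega
    exact absurd (this ▸ hpp) (by norm_num)
  by_cases h7 : 7 ≤ p ∨ 3 ≤ (m : ℕ)
  · obtain ⟨x, hD, hx, hx'⟩ := exists_param hpp hm h5 hm2 h7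
    exact twoConj_of_param h2 hprime x hD hx hx'
  · have hp5 : p = 5 := by
      by_contra hc
      have : p = 6 := by omega
      exact absurd (this ▸ hpp) (by norm_num)
    subst hp5
    have hF5 : (5 : F) = 0 := by exact_mod_cast CharP.cast_eq_zero F 5
    obtain ⟨x, hD, hx, hx'⟩ := exists_param_five hF5 (by rw [hm, show (m : ℕ) = 2 by omega])
    exact twoConj_of_param h2 hprime x hD hx hx'

end CfsgLib.RegUnip
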