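import Cfsg.Agent.RegUnip.Prime

/-!
# Two regular unipotent elements generate
-/

set_option autoImplicit false

namespace CfsgLib.RegUnip

open Matrix Cfsg Cfsg.Geo CfsgLib.Geo

variable {n : ℕ} {F : Type*} [Field F] [Fintype F]

theorem two_regular (hn : 4 ≤ n) :
    ∃ v : Matrix.SpecialLinearGroup (Fin n) F, IsRegU v ∧
      Subgroup.closure ({uSL, v} : Set (Matrix.SpecialLinearGroup (Fin n) F)) = ⊤ := by
  by_cases hp : (Fintype.card F).Prime
  · obtain ⟨g, hg⟩ := two_conj_prime (n := n) (by omega) hp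
    exact ⟨_, regular_conj g uSL (uSL_regular (by omega)), hg⟩
  obtain ⟨g, hg0, -, hgen⟩ := exists_primitive (F := F)
  by_cases h2 : (2 : F) = 0
  · obtain ⟨p, hp'⟩ := CharP.exists F
    haveI := hp'
    have hF : ringChar F = 2 := by
      haveI : CharP F 2 := CharTwo.of_one_ne_zero_of_two_eq_zero one_ne_zero h2
      exact ringChar.eq F 2
    obtain ⟨t, ht⟩ := FiniteField.isSquare_of_char_two hF g
    have ht0 : t ≠ 0 := fun h => hg0 (by rw [ht, h, mul_zero])
    obtain ⟨v, hv, hr⟩ := exists_sl (n := n) (by omega) (0 : F) (t • E (n - 1)) (by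
      rw [co_smul, co_E, if_pos ⟨by omega, rfl⟩, mul_one]; exact ht0)
    exact ⟨v, hr, gen_two_large hn h2 v ht0 (ht ▸ hgen) hv⟩
  have hne := intCast_ne_of_generator hp hgen
  have hsign : ((-1 : F) ^ n) * (-1) ^ n = 1 := by rw [← mul_pow, neg_one_mul, neg_neg, one_pow]
  set α : F := (-1) ^ n * (8 - g / 4) with hα
  have h4 : (4 : F) ≠ 0 := by
    rw [show (4 : F) = 2 * 2 by norm_num]; exact mul_ne_zero h2 h2
  have hα0 : α ≠ 0 := mul_ne_zero (pow_ne_zero _ (by simp)) fun e => hne 32 (by
    field_simp at e; push_cast; linear_combination -e)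
  set a : Fin n → F := oddVec 0 α with ha
  have hco := fun k (hk : k < n) => co_oddVec (n := n) (0 : F) α hk
  have hl : co a (n - 1) = α := by
    rw [ha, hco _ (by omega), if_neg (by omega), if_neg (by omega), if_neg (by omega), if_pos rfl]
    ring
  have hψ : psi ⬝ᵥ a = g / 4 := by
    rw [ha, psi_oddVec (by omega), hα]
    linear_combination (g / 4 - 8) * hsign
  obtain ⟨v, hv, hr⟩ := exists_sl (n := n) (by omega) (4 : F) ((-2 : F) • a) (by
    rw [co_smul, hl]; exact mul_ne_zero (neg_ne_zero.2 h2) hα0)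
  refine ⟨v, hr, gen_odd_one (by omega) h2 v hv ?_ ?_ ?_ (hl ▸ hα0) ?_ ?_ ?_⟩
  · rw [ha, hco _ (by omega), if_pos rfl, if_neg (by omega), if_neg (by omega), if_neg (by omega), if_neg (by omega)]
    ring
  · rw [ha, hco _ (by omega), if_neg (by omega), if_pos rfl, if_neg (by omega),
      if_neg (show ¬(1 = n - 1) by omega)]
    ring
  · rw [ha, hco _ (by omega), if_neg (by omega), if_neg (by omega), if_pos rfl,
      if_neg (show ¬(2 = n - 1) by omega)]
    ring
  · rw [ha, hco _ (by omega), if_neg (show ¬(3 = 0) by omega), if_neg (show ¬(3 = 1) by omega),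
      if_neg (show ¬(3 = 2) by omega)]
    by_cases h3 : 3 = n - 1
    · obtain rfl : n = 4 := by omega
      simp [hα]
      intro e
      refine hne 64 ?_
      field_simp at e
      push_cast
      linear_combination -e
    · rw [if_neg h3]
      intro e
      have h8 : (2 : F) ^ 3 = 0 := by linear_combination e
      exact h2 ((pow_eq_zero_iff three_ne_zero).1 h8)
  · rw [hψ]; exact div_ne_zero hg0 h4
  · rw [hψ, mul_div_cancel₀ _ h4]; exact hgen

end CfsgLib.RegUnip
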