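import Mathlib.FieldTheory.Finite.Basic
import Mathlib.RingTheory.IntegralDomain
import Mathlib.LinearAlgebra.FiniteDimensional.Defs
import Mathlib.Algebra.Polynomial.Roots
import Mathlib.GroupTheory.SpecificGroups.Cyclic

/-!
# Generators of a finite field as a ring
-/

set_option autoImplicit false

namespace CfsgLib.RegUnip

variable {F : Type*} [Field F] [Fintype F]

theorem closure_eq_top_of_prime (h : (Fintype.card F).Prime) (x : F) :
    Subring.closure ({x} : Set F) = ⊤ := by
  haveI : Fact (Nat.card F).Prime := ⟨by rw [Nat.card_eq_fintype_card]; exact h⟩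
  rcases (Subring.closure ({x} : Set F)).toAddSubgroup.eq_bot_or_eq_top_of_prime_card with e | e
  · have : (1 : F) ∈ (Subring.closure ({x} : Set F)).toAddSubgroup := one_mem (Subring.closure _)
    rw [e, AddSubgroup.mem_bot] at this
    exact absurd this one_ne_zero
  · refine eq_top_iff.2 fun y _ => ?_
    exact (e ▸ AddSubgroup.mem_top y : y ∈ (Subring.closure ({x} : Set F)).toAddSubgroup)

/-- A primitive element. -/
theorem exists_primitive : ∃ g : F, g ≠ 0 ∧ orderOf g = Fintype.card F - 1 ∧
    Subring.closure ({g} : Set F) = ⊤ := by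
  classical
  obtain ⟨g, hg⟩ := IsCyclic.exists_generator (α := Fˣ)
  refine ⟨g, g.ne_zero, ?_, eq_top_iff.2 fun y _ => ?_⟩
  · rw [orderOf_units, orderOf_eq_card_of_forall_mem_zpowers hg, Nat.card_eq_fintype_card,
      Fintype.card_units]
  · rcases eq_or_ne y 0 with rfl | hy
    · exact zero_mem _
    · obtain ⟨k, hk⟩ := Submonoid.mem_powers_iff _ _ |>.1
        ((mem_powers_iff_mem_zpowers).2 (hg (Units.mk0 y hy)))
      have : y = (g : F) ^ k := by rw [← Units.val_pow_eq_pow_val, hk, Units.val_mk0]
      rw [this]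
      exact pow_mem (Subring.subset_closure (Set.mem_singleton _)) k

/-- A finite field generated as a ring by an integer is a prime field. -/
theorem intCast_ne_of_generator (h : ¬ (Fintype.card F).Prime) {g : F}
    (hg : Subring.closure ({g} : Set F) = ⊤) (m : ℤ) : g ≠ (m : F) := fun e => by
  obtain ⟨p, hp⟩ := CharP.exists F
  haveI := hp
  have hpp : p.Prime := CharP.char_is_prime F p
  haveI : NeZero p := ⟨hpp.ne_zero⟩
  haveI : Fact p.Prime := ⟨hpp⟩
  have hle : (⊤ : Subring F) ≤ (ZMod.castHom (dvd_refl p) F).range := hg ▸ Subring.closure_le.2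
    (Set.singleton_subset_iff.2 ⟨(m : ZMod p), by rw [e]; exact map_intCast _ m⟩)
  have hsurj : Function.Surjective (ZMod.castHom (dvd_refl p) F) := fun y => hle (Subring.mem_top y)
  have hcard := Fintype.card_of_bijective ⟨(ZMod.castHom (dvd_refl p) F).injective, hsurj⟩
  rw [ZMod.card] at hcard
  exact h (hcard ▸ hpp)

/-- An element outside all proper subfields generates the field as a ring. -/
theorem exists_pow_eq_of_not_generator {p m : ℕ} (hp : p.Prime) (hq : Fintype.card F = p ^ m) {x : F}
    (hx : Subring.closure ({x} : Set F) ≠ ⊤) : ∃ k, 1 ≤ k ∧ 2 * k ≤ m ∧ x ^ (p ^ k) = x := by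
  classical
  let R := Subring.closure ({x} : Set F)
  let K : Subfield F :=
    { R with
      inv_mem' := fun y hy => by
        rcases eq_or_ne y 0 with rfl | hy0
        · simp only [inv_zero]; exact R.zero_mem
        · have h1 := FiniteField.pow_card_sub_one_eq_one y hy0
          have h2 : y⁻¹ = y ^ (Fintype.card F - 2) := inv_eq_of_mul_eq_one_right (by
            rw [← pow_succ', show Fintype.card F - 2 + 1 = Fintype.card F - 1 by
              have := Fintype.one_lt_card (α := F); omega, h1])
          rw [h2]; exact R.pow_mem hy _ }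
  letI : Fintype K := Fintype.ofFinite K
  have hd : Fintype.card F = Fintype.card K ^ Module.finrank K F := Module.card_eq_pow_finrank
  have hr2 : 2 ≤ Module.finrank K F := by
    have h0 : 0 < Module.finrank K F := Module.finrank_pos
    by_contra hr
    rw [show Module.finrank K F = 1 by omega, pow_one] at hd
    have hbij : Function.Bijective (Subtype.val : K → F) :=
      (Fintype.bijective_iff_injective_and_card _).2 ⟨Subtype.val_injective, hd.symm⟩
    refine hx (eq_top_iff.2 fun y _ => ?_)
    obtain ⟨⟨z, hz⟩, rfl⟩ := hbij.2 y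
    exact hz
  obtain ⟨k, hk, hdk⟩ := (Nat.dvd_prime_pow hp).1
    (show Fintype.card K ∣ p ^ m by rw [← hq, hd]; exact dvd_pow_self _ (by omega))
  have hk1 : 1 ≤ k := by
    by_contra h
    have := Fintype.one_lt_card (α := K)
    rw [hdk, show k = 0 by omega, pow_zero] at this
    omega
  refine ⟨k, hk1, ?_, ?_⟩
  · have : p ^ (k * Module.finrank K F) = p ^ m := by rw [pow_mul, ← hdk, ← hd, hq]
    rw [← Nat.pow_right_injective hp.two_le this, mul_comm 2]
    exact Nat.mul_le_mul_left _ hr2
  · have h1 := FiniteField.pow_card (⟨x, Subring.subset_closure (Set.mem_singleton x)⟩ : K)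
    rw [hdk] at h1
    exact congrArg Subtype.val h1

/-- A bounded power of a primitive element still generates, for a large enough field. -/
theorem closure_pow_eq_top {g : F} (hg : orderOf g = Fintype.card F - 1) {e : ℕ} (he : 0 < e)
    (hq : (e - 1) * (e - 1) < Fintype.card F) : Subring.closure ({g ^ e} : Set F) = ⊤ := by
  by_contra h
  obtain ⟨p, hp⟩ := CharP.exists F
  haveI := hp
  obtain ⟨m, hpp, hm⟩ := FiniteField.card F p
  obtain ⟨k, hk1, hkm, hk⟩ := exists_pow_eq_of_not_generator hpp hm h
  have hpk : 2 ≤ p ^ k := le_trans hpp.two_le (Nat.le_self_pow (by omega) p)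
  have hone : g ^ (e * (p ^ k - 1)) = 1 := by
    have hge : g ^ e ≠ 0 := pow_ne_zero _ fun h0 => by
      rw [h0, orderOf_zero] at hg
      have := Fintype.one_lt_card (α := F)
      omega
    refine mul_left_cancel₀ hge ?_
    rw [pow_mul, ← pow_succ', mul_one, show p ^ k - 1 + 1 = p ^ k by omega, hk]
  have hle : Fintype.card F - 1 ≤ e * (p ^ k - 1) := hg ▸ orderOf_le_of_pow_eq_one (by
    have : 0 < p ^ k - 1 := by omega
    positivity) hone
  have hsq : p ^ k * p ^ k ≤ Fintype.card F := by
    rw [hm, ← pow_add]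
    exact Nat.pow_le_pow_right hpp.pos (by omega)
  obtain ⟨j, hj⟩ : ∃ j, p ^ k = j + 1 := ⟨p ^ k - 1, by omega⟩
  obtain ⟨i, rfl⟩ : ∃ i, e = i + 1 := ⟨e - 1, by omega⟩
  rw [hj] at hsq hle
  simp only [Nat.add_sub_cancel] at hq hle
  have hle' : Fintype.card F ≤ (i + 1) * j + 1 := by omega
  have hj1 : 1 ≤ j := by omega
  have hji : j + 1 ≤ i := by
    by_contra hc
    nlinarith [Nat.mul_le_mul_right j (show i + 1 ≤ j + 1 by omega)]
  nlinarith [Nat.mul_le_mul_left (i + 1) (show j ≤ i - 1 by omega)]

end CfsgLib.RegUnip
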