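import Cfsg.Agent.RegUnip.Basic

/-!
# Generation from one transvection in the group of the standard pair
-/

set_option autoImplicit false

namespace CfsgLib.RegUnip

open Matrix Cfsg Cfsg.Geo CfsgLib.Geo Finset

variable {n : ℕ} {F : Type*} [Field F] {M : Subgroup (GL (Fin n) F)}

theorem covector_ext {φ ψ : Fin n → F} (h : ∀ x, φ ⬝ᵥ x = ψ ⬝ᵥ x) : φ = ψ :=
  funext fun i => by simpa using h (Pi.single i 1)

/-- All transvections with axis `φ` lie in `M`. -/
def AxFull (M : Subgroup (GL (Fin n) F)) (φ : Fin n → F) : Prop :=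
  ∀ a : Fin n → F, φ ⬝ᵥ a = 0 → HasTv M a φ

theorem axFull_smul {φ : Fin n → F} (h : AxFull M φ) (c : F) : AxFull M (c • φ) := by
  intro a ha
  rcases eq_or_ne c 0 with rfl | hc
  · rw [zero_smul]; exact hasTv_zero_right M a
  · exact (hasTv_smul_iff c hc).1 (h _ (by rw [dotProduct_smul, ← smul_dotProduct, ha]))

theorem axFull_vecMul {φ : Fin n → F} (h : AxFull M φ) {g : GL (Fin n) F} (hg : g ∈ M) :
    AxFull M (φ ᵥ* (g : Matrix (Fin n) (Fin n) F)) := by
  intro a ha
  have h1 := (h ((g : Matrix (Fin n) (Fin n) F) *ᵥ a)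
    (by rw [Matrix.dotProduct_mulVec, ha])).conj (inv_mem hg)
  rwa [inv_inv, Matrix.mulVec_mulVec, ← Units.val_mul, inv_mul_cancel, Units.val_one,
    Matrix.one_mulVec] at h1

theorem axFull_add {φ ψ : Fin n → F} (h : AxFull M φ) (h' : AxFull M ψ) : AxFull M (ψ + φ) := by
  by_cases hex : ∃ a : Fin n → F, φ ⬝ᵥ a = 0 ∧ ψ ⬝ᵥ a ≠ 0
  · obtain ⟨a, ha, hne⟩ := hex
    obtain ⟨hd, hm⟩ := h ((ψ ⬝ᵥ a)⁻¹ • a) (by rw [dotProduct_smul, ha, smul_zero])
    convert! axFull_vecMul h' hm using 1
    refine covector_ext fun x => ?_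
    rw [← Matrix.dotProduct_mulVec, tvec_mulVec, dotProduct_add, dotProduct_smul, dotProduct_smul,
      add_dotProduct, smul_eq_mul, smul_eq_mul, inv_mul_cancel₀ hne, mul_one]
  · push Not at hex
    by_cases hφ : φ = 0
    · rw [hφ, add_zero]; exact h'
    · obtain ⟨i, hi⟩ := Function.ne_iff.1 hφ
      have hψ : ψ = (ψ i / φ i) • φ := by
        refine covector_ext fun x => ?_
        have hi' : φ i ≠ 0 := hi
        have := hex (x - ((φ ⬝ᵥ x) / φ i) • Pi.single i 1) (by simp [dotProduct_sub, hi'])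
        simp only [dotProduct_sub, dotProduct_smul, dotProduct_single_one, smul_eq_mul] at this
        rw [smul_dotProduct, smul_eq_mul]
        field_simp at this ⊢
        linear_combination this
      rw [hψ, show (ψ i / φ i) • φ + φ = (ψ i / φ i + 1) • φ by rw [add_smul, one_smul]]
      exact axFull_smul h _

/-- The axes at which `M` is full, as a subspace. -/
def axSubmodule (M : Subgroup (GL (Fin n) F)) : Submodule F (Fin n → F) where
  carrier := {φ | AxFull M φ}
  add_mem' ha hb := axFull_add hb ha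
  zero_mem' a _ := hasTv_zero_right M a
  smul_mem' c _ ha := axFull_smul ha c

theorem specialLinear_le_of_axSubmodule (h : axSubmodule M = ⊤) : specialLinear (Fin n) F ≤ M :=
  specialLinear_le_of_elementary fun i j hij c =>
    (h ▸ Submodule.mem_top : (Pi.single j 1 : Fin n → F) ∈ axSubmodule M) _ (by simp [hij.symm])

theorem E_vecMul_uMat (k : ℕ) : (E k : Fin n → F) ᵥ* uMat = E k + E (k + 1) := by
  refine covector_ext fun x => ?_
  rw [← Matrix.dotProduct_mulVec, add_dotProduct, E_dotProduct, E_dotProduct, E_dotProduct]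
  by_cases hk : k < n
  · exact co_uMat_mulVec x hk
  · rw [co_of_le _ (by omega), co_of_le _ (by omega), co_of_le _ (by omega), add_zero]

/-- Full transvection groups on the fixed covector suffice. -/
theorem specialLinear_le_of_axFull (h : AxFull M (E 0)) {u : GL (Fin n) F} (hu : u ∈ M)
    (hu' : (u : Matrix (Fin n) (Fin n) F) = uMat) : specialLinear (Fin n) F ≤ M := by
  refine specialLinear_le_of_axSubmodule (mem_of_forall_E _ fun k _ => ?_)
  induction k with
  | zero => exact h
  | succ k ih =>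
    have h1 := axFull_vecMul (ih (by omega)) hu
    rw [hu', E_vecMul_uMat] at h1
    have h2 : (E k + E (k + 1) : Fin n → F) ∈ axSubmodule M := h1
    exact (Submodule.add_mem_iff_right _ (ih (by omega))).1 h2

/-- The centres of full root groups with a given axis. -/
def lineCentres (M : Subgroup (GL (Fin n) F)) (φ : Fin n → F) : Submodule F (Fin n → F) where
  carrier := {x | ∀ c : F, HasTv M (c • x) φ}
  add_mem' {x y} hx hy c := by rw [smul_add]; exact (hx c).add_center (hy c)
  zero_mem' c := by rw [smul_zero]; exact hasTv_zero_left M φ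
  smul_mem' d x hx c := by rw [smul_smul]; exact hx _

/-- The axes of full root groups with a given centre. -/
def lineAxes (M : Subgroup (GL (Fin n) F)) (x : Fin n → F) : Submodule F (Fin n → F) where
  carrier := {φ | ∀ c : F, HasTv M (c • x) φ}
  add_mem' {φ ψ} hφ hψ c := (hφ c).add_axis (hψ c)
  zero_mem' c := hasTv_zero_right M _
  smul_mem' d φ hφ c := by
    rcases eq_or_ne d 0 with rfl | hd
    · rw [zero_smul]; exact hasTv_zero_right M _
    · rw [← hasTv_smul_iff d hd, smul_smul]; exact hφ _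

theorem mem_lineAxes_iff {x φ : Fin n → F} : φ ∈ lineAxes M x ↔ x ∈ lineCentres M φ := Iff.rfl

theorem lineAxes_conj {x φ : Fin n → F} (h : φ ∈ lineAxes M x) {g : GL (Fin n) F} (hg : g ∈ M) :
    φ ᵥ* ((g⁻¹ : GL (Fin n) F) : Matrix (Fin n) (Fin n) F) ∈
      lineAxes M ((g : Matrix (Fin n) (Fin n) F) *ᵥ x) := fun c => by
  have := (h c).conj hg
  rwa [Matrix.mulVec_smul] at this

/-- An additive subgroup of a field stable under a generator of the field is everything. -/
theorem forall_mem_of_generator {S : AddSubgroup F} {ρ a₀ : F}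
    (hρ : Subring.closure ({ρ} : Set F) = ⊤) (h0 : a₀ ∈ S) (hne : a₀ ≠ 0)
    (hmul : ∀ x ∈ S, ρ * x ∈ S) (y : F) : y ∈ S := by
  let T : Subring F :=
    { carrier := {z | ∀ x ∈ S, z * x ∈ S}
      one_mem' := fun x hx => by rwa [one_mul]
      mul_mem' := fun {a b} ha hb x hx => by rw [mul_assoc]; exact ha _ (hb x hx)
      zero_mem' := fun x _ => by rw [zero_mul]; exact S.zero_mem
      add_mem' := fun {a b} ha hb x hx => by rw [add_mul]; exact S.add_mem (ha x hx) (hb x hx)
      neg_mem' := fun {a} ha x hx => by rw [neg_mul]; exact S.neg_mem (ha x hx) }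
  have hT : T = ⊤ := top_le_iff.1 (hρ ▸ Subring.closure_le.2 (Set.singleton_subset_iff.2 hmul))
  have := (hT ▸ Subring.mem_top (y / a₀) : y / a₀ ∈ T) a₀ h0
  rwa [div_mul_cancel₀ _ hne] at this

variable {C : F} {R : Fin n → F}

/-- Conjugation by the second matrix keeps the fixed covector. -/
theorem hasTv_vMat (hn : 2 ≤ n) {v : GL (Fin n) F} (hv : v ∈ M)
    (hv' : (v : Matrix (Fin n) (Fin n) F) = vMat C R) {x : Fin n → F} (h : HasTv M x (E 0)) :
    HasTv M (vMat C R *ᵥ x - x) (E 0) := by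
  have h1 := h.conj hv
  have h0 : (E 0 : Fin n → F) ᵥ* ((v⁻¹ : GL (Fin n) F) : Matrix (Fin n) (Fin n) F) = E 0 := by
    conv_lhs => rw [← E_zero_vecMul_vMat C R hn, ← hv']
    rw [Matrix.vecMul_vecMul, ← Units.val_mul, mul_inv_cancel, Units.val_one, Matrix.vecMul_one]
  rw [h0, hv'] at h1
  exact h1.sub_center h

theorem co_shift (hn : 2 ≤ n) {x : Fin n → F} (hx : co x 0 = 0) (k : ℕ) :
    co (vMat C R *ᵥ x - x) k = if k = 0 then 0 else co x (k + 1) := by
  by_cases hk : k < n
  · rcases Nat.eq_zero_or_pos k with rfl | hk0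
    · rw [co_sub, co_vMat_zero C R x hn, sub_self, if_pos rfl]
    · rw [co_sub, co_vMat_of_zero C R x hn hx hk0 hk, if_neg (by omega)]
      ring
  · rw [co_of_le _ (by omega), co_of_le _ (by omega : n ≤ k + 1)]
    split_ifs <;> rfl

/-- A full centre with non-zero last coordinate on the fixed covector gives everything. -/
theorem axFull_of_lineCentres (hn : 2 ≤ n) {v : GL (Fin n) F} (hv : v ∈ M)
    (hv' : (v : Matrix (Fin n) (Fin n) F) = vMat C R) {x : Fin n → F} (hx0 : co x 0 = 0)
    (hxl : co x (n - 1) ≠ 0) (hx : x ∈ lineCentres M (E 0)) : AxFull M (E 0) := by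
  let S := lineCentres M (E 0 : Fin n → F)
  have hinv : ∀ y ∈ S, vMat C R *ᵥ y - y ∈ S := fun y hy c => by
    have := hasTv_vMat hn hv hv' (hy c)
    rwa [Matrix.mulVec_smul, ← smul_sub] at this
  have hdown : ∀ j, j + 1 ≤ n - 1 → ∃ y ∈ S, co y 0 = 0 ∧ co y (n - 1 - j) ≠ 0 ∧
      ∀ k, n - 1 - j < k → co y k = 0 := by
    intro j
    induction j with
    | zero => exact fun _ => ⟨x, hx, hx0, hxl, fun k hk => co_of_le _ (by omega)⟩
    | succ j ih =>
      intro hj
      obtain ⟨y, hy, hy0, hyj, hyk⟩ := ih (by omega)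
      refine ⟨_, hinv y hy, ?_, ?_, fun k hk => ?_⟩
      · rw [co_shift hn hy0, if_pos rfl]
      · rw [co_shift hn hy0, if_neg (by omega), show n - 1 - (j + 1) + 1 = n - 1 - j by omega]
        exact hyj
      · rw [co_shift hn hy0, if_neg (by omega), hyk _ (by omega)]
  have hup : ∀ j, 1 ≤ j → j ≤ n - 1 → ∀ y : Fin n → F, co y 0 = 0 → (∀ k, j < k → co y k = 0) → y ∈ S := by
    intro j hj1
    induction j, hj1 using Nat.le_induction with
    | base =>
      intro hj y hy0 hyk
      obtain ⟨w, hw, hw0, hwj, hwk⟩ := hdown (n - 2) (by omega)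
      rw [show n - 1 - (n - 2) = 1 by omega] at hwj hwk
      have : y = (co y 1 / co w 1) • w := ext_co fun k _ => by
        rw [co_smul]
        rcases k with _ | _ | k
        · rw [hy0, hw0, mul_zero]
        · field_simp
        · rw [hyk (k + 1 + 1) (by omega), hwk (k + 1 + 1) (by omega), mul_zero]
      rw [this]
      exact S.smul_mem _ hw
    | succ j hj1 ih =>
      intro hj y hy0 hyk
      obtain ⟨w, hw, hw0, hwj, hwk⟩ := hdown (n - 1 - (j + 1)) (by omega)
      rw [show n - 1 - (n - 1 - (j + 1)) = j + 1 by omega] at hwj hwk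
      have hz : y - (co y (j + 1) / co w (j + 1)) • w ∈ S := ih (by omega) _
        (by rw [co_sub, co_smul, hy0, hw0, mul_zero, sub_zero]) fun k hk => by
          rw [co_sub, co_smul]
          rcases Nat.eq_or_lt_of_le (Nat.succ_le_of_lt hk) with h | h
          · subst h
            field_simp
            ring
          · rw [hyk k h, hwk k h, mul_zero, sub_zero]
      have := S.add_mem hz (S.smul_mem (co y (j + 1) / co w (j + 1)) hw)
      rwa [sub_add_cancel] at this
  intro a ha
  rw [E_dotProduct] at ha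
  have := hup (n - 1) (by omega) le_rfl a ha (fun k hk => co_of_le _ (by omega)) 1
  rwa [one_smul] at this

/-- The covector of the odd design. -/
def phi : Fin n → F := (2 : F) • E 0 + E 1

theorem phi_dot (x : Fin n → F) : phi ⬝ᵥ x = 2 * co x 0 + co x 1 := by
  rw [phi, add_dotProduct, smul_dotProduct, E_dotProduct, E_dotProduct, smul_eq_mul]

theorem zMat_mulVec_odd (hn : 2 ≤ n) {a : Fin n → F} (h0 : co a 0 = 1) (h1 : co a 1 = -2)
    (x : Fin n → F) :
    zMat 4 ((-2 : F) • a) *ᵥ x = x - ((phi ⬝ᵥ x) • E 0 + (2 * co x 0) • a) := by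
  refine ext_co fun k hk => ?_
  rw [co_sub, co_add, co_smul, co_smul, co_E, phi_dot]
  rcases k with _ | _ | k
  · rw [co_zMat_zero _ _ _ hn, h0, if_pos ⟨hk, rfl⟩]; ring
  · rw [co_zMat_one _ _ _ hn, h1, if_neg (by omega)]; ring
  · rw [co_zMat_of_two_le _ _ _ (by omega), co_smul, if_neg (by omega)]; ring

/-- Generation in odd characteristic. -/
theorem specialLinear_le_odd (hn : 3 ≤ n) (h2 : (2 : F) ≠ 0) {u z U : GL (Fin n) F} (hu : u ∈ M)
    (hz : z ∈ M) (hU : U ∈ M) {a : Fin n → F} (h0 : co a 0 = 1) (h1 : co a 1 = -2)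
    (hu' : (u : Matrix (Fin n) (Fin n) F) = uMat)
    (hz' : (z : Matrix (Fin n) (Fin n) F) = zMat 4 ((-2 : F) • a)) {c : F}
    (horth : phi ⬝ᵥ ((U : Matrix (Fin n) (Fin n) F) *ᵥ a) = 0)
    (ht : phi ⬝ᵥ (((U⁻¹ : GL (Fin n) F) : Matrix (Fin n) (Fin n) F) *ᵥ a) ≠ 0)
    (hσ : c = 0 ∨
      phi ⬝ᵥ ((U : Matrix (Fin n) (Fin n) F) *ᵥ ((U : Matrix (Fin n) (Fin n) F) *ᵥ a)) ≠ 0)
    (hx0 : co ((U : Matrix (Fin n) (Fin n) F) *ᵥ a + c • a) 0 = 0)
    (hx1 : co ((U : Matrix (Fin n) (Fin n) F) *ᵥ a + c • a) 1 = 0)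
    (hxl : co ((U : Matrix (Fin n) (Fin n) F) *ᵥ a + c • a) (n - 1) ≠ 0)
    (hgen : Subring.closure
      ({4 * (phi ⬝ᵥ (((U⁻¹ : GL (Fin n) F) : Matrix (Fin n) (Fin n) F) *ᵥ a)) * c} : Set F) = ⊤) :
    specialLinear (Fin n) F ≤ M := by
  set Ua : Fin n → F := (U : Matrix (Fin n) (Fin n) F) *ᵥ a
  set x : Fin n → F := Ua + c • a with hxdef
  set Ui : Matrix (Fin n) (Fin n) F := ((U⁻¹ : GL (Fin n) F) : Matrix (Fin n) (Fin n) F)
  set t : F := phi ⬝ᵥ (Ui *ᵥ a)
  have hzv := zMat_mulVec_odd (by omega) h0 h1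
  have hphia : phi ⬝ᵥ a = 0 := by rw [phi_dot, h0, h1]; ring
  have hE0 : phi ⬝ᵥ (E 0 : Fin n → F) = 2 := by
    rw [phi_dot, co_E, co_E, if_pos ⟨by omega, rfl⟩, if_neg (by omega)]; ring
  have hza : zMat 4 ((-2 : F) • a) *ᵥ a = -a := by
    rw [hzv, hphia, h0, zero_smul, zero_add, mul_one, two_smul]; abel
  have hzx : zMat 4 ((-2 : F) • a) *ᵥ x = x := by
    rw [hzv, phi_dot, hx0, hx1, mul_zero, add_zero, zero_smul, zero_smul, add_zero, sub_zero]
  have hphiz : phi ᵥ* zMat 4 ((-2 : F) • a) = -phi := covector_ext fun y => by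
    rw [← Matrix.dotProduct_mulVec, hzv, dotProduct_sub, dotProduct_add, dotProduct_smul,
      dotProduct_smul, hphia, hE0, neg_dotProduct, smul_eq_mul, smul_eq_mul]
    ring
  have hphizi : phi ᵥ* ((z⁻¹ : GL (Fin n) F) : Matrix (Fin n) (Fin n) F) = -phi := by
    have h := congrArg (fun w => w ᵥ* ((z⁻¹ : GL (Fin n) F) : Matrix (Fin n) (Fin n) F)) hphiz
    simp only [← hz', Matrix.vecMul_vecMul, ← Units.val_mul, mul_inv_cancel, Units.val_one,
      Matrix.vecMul_one, Matrix.neg_vecMul] at h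
    exact neg_eq_iff_eq_neg.mp h.symm
  -- the transvection
  have hτ : HasTv M ((2 : F) • a) phi := by
    refine ⟨by rw [dotProduct_smul, hphia, smul_zero], ?_⟩
    have : tvec ((2 : F) • a) phi (by rw [dotProduct_smul, hphia, smul_zero]) = z * z := by
      refine gl_ext_mulVec fun y => ?_
      rw [mul_mulVec, tvec_mulVec, hz', hzv y, hzv, smul_smul]
      refine ext_co fun k _ => ?_
      simp only [co_add, co_sub, co_smul, dotProduct_sub, dotProduct_add, dotProduct_smul, hphia,
        hE0, co_E, h0, smul_eq_mul]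
      simp only [show 0 < n by omega, and_self, if_true, phi_dot]
      ring
    rw [this]
    exact mul_mem hz hz
  -- the orthogonal translate, and its splitting under `z`
  have hstep : ∀ r : F, HasTv M (r • a) phi → HasTv M ((2 * t * r) • Ua) phi := by
    intro r hr
    have h3 := (hr.conj hU).comm hτ (by rw [Matrix.mulVec_smul, dotProduct_smul, horth, smul_zero])
    simp only [← Matrix.dotProduct_mulVec, Matrix.mulVec_smul, dotProduct_smul, smul_eq_mul] at h3
    rw [← hasTv_smul_iff _ (mul_ne_zero h2 ht), smul_smul] at h3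
    exact h3
  let S : AddSubgroup F :=
    { carrier := {r | HasTv M (r • a) phi}
      zero_mem' := by
        change HasTv M ((0 : F) • a) phi
        rw [zero_smul]; exact hasTv_zero_left M _
      add_mem' := fun {r s} hr hs => by
        change HasTv M ((r + s) • a) phi
        rw [add_smul]; exact hr.add_center hs
      neg_mem' := fun {r} hr => by
        change HasTv M ((-r) • a) phi
        rw [neg_smul]; exact hr.neg_center }
  have hS : ∀ r : F, HasTv M (r • a) phi := by
    refine forall_mem_of_generator (S := S) hgen hτ h2 fun r hr => ?_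
    have h5 := hstep r hr
    have h6 := (h5.conj hz).neg_axis
    rw [hphizi, neg_neg, hz', Matrix.mulVec_smul] at h6
    have h7 : zMat 4 ((-2 : F) • a) *ᵥ Ua = Ua + (2 * c) • a := by
      have : Ua = x - c • a := by rw [hxdef, add_sub_cancel_right]
      rw [this, Matrix.mulVec_sub, Matrix.mulVec_smul, hzx, hza]
      module
    rw [h7] at h6
    have h8 := h6.sub_center h5
    rw [← smul_sub, add_sub_cancel_left, smul_smul] at h8
    change HasTv M ((4 * t * c * r) • a) phi
    convert! h8 using 2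
    ring
  have hUa : Ua ∈ lineCentres M phi := fun r => by
    have := hstep ((2 * t)⁻¹ * r) (hS _)
    rwa [mul_inv_cancel_left₀ (mul_ne_zero h2 ht)] at this
  have hx : x ∈ lineCentres M phi := Submodule.add_mem _ hUa (Submodule.smul_mem _ c hS)
  -- a second axis at the translate
  set φ1 : Fin n → F := phi ᵥ* Ui
  have ha2 : φ1 ᵥ* Ui ∈ lineAxes M ((U : Matrix (Fin n) (Fin n) F) *ᵥ Ua) :=
    lineAxes_conj (lineAxes_conj (x := a) (mem_lineAxes_iff.2 hS) hU) hU
  have ha1 : φ1 ∈ lineAxes M ((U : Matrix (Fin n) (Fin n) F) *ᵥ Ua) :=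
    lineAxes_conj (x := Ua) (mem_lineAxes_iff.2 hUa) hU
  have hcancel : Ui *ᵥ Ua = a := inv_mulVec_mulVec U a
  have e1 : φ1 ⬝ᵥ a = t := (Matrix.dotProduct_mulVec _ _ _).symm
  have e2 : φ1 ⬝ᵥ x = c * t := by
    rw [hxdef, dotProduct_add, dotProduct_smul, e1, ← Matrix.dotProduct_mulVec, hcancel, hphia,
      smul_eq_mul, zero_add]
  have e3 : (φ1 ᵥ* Ui) ⬝ᵥ x = t + c * ((φ1 ᵥ* Ui) ⬝ᵥ a) := by
    rw [hxdef, dotProduct_add, dotProduct_smul, ← Matrix.dotProduct_mulVec φ1 Ui Ua, hcancel, e1,
      smul_eq_mul]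
  obtain ⟨χ, hxχ, hχa⟩ : ∃ χ, χ ∈ lineAxes M x ∧ χ ⬝ᵥ a = t * t := by
    rcases hσ with hc | hσ
    · refine ⟨t • φ1, Submodule.smul_mem _ _ ?_, by rw [smul_dotProduct, e1, smul_eq_mul]⟩
      have hxUa : x = Ua := by rw [hxdef, hc, zero_smul, add_zero]
      rw [hxUa]
      exact lineAxes_conj (x := a) (mem_lineAxes_iff.2 hS) hU
    · let χ : Fin n → F := ((φ1 ᵥ* Ui) ⬝ᵥ x) • φ1 - (φ1 ⬝ᵥ x) • (φ1 ᵥ* Ui)
      have hχ : χ ∈ lineAxes M ((U : Matrix (Fin n) (Fin n) F) *ᵥ Ua) :=
        Submodule.sub_mem _ (Submodule.smul_mem _ _ ha1) (Submodule.smul_mem _ _ ha2)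
      have hχx : χ ⬝ᵥ x = 0 := by
        simp only [χ, sub_dotProduct, smul_dotProduct, smul_eq_mul]; ring
      refine ⟨χ, ?_, ?_⟩
      · have h5 : (phi ⬝ᵥ ((U : Matrix (Fin n) (Fin n) F) *ᵥ Ua)) • χ ∈ lineAxes M x := fun r => by
          have h9 := (hx r).comm (hχ 1) (by rw [dotProduct_smul, hχx, smul_zero])
          rwa [one_smul] at h9
        have := Submodule.smul_mem _ (phi ⬝ᵥ ((U : Matrix (Fin n) (Fin n) F) *ᵥ Ua))⁻¹ h5
        rwa [smul_smul, inv_mul_cancel₀ hσ, one_smul] at this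
      · simp only [χ, sub_dotProduct, smul_dotProduct, e1, e2, e3, smul_eq_mul]
        ring
  have hzix : ((z⁻¹ : GL (Fin n) F) : Matrix (Fin n) (Fin n) F) *ᵥ x = x := by
    conv_lhs => rw [← hzx, ← hz']
    exact inv_mulVec_mulVec z x
  have hE : (E 0 : Fin n → F) ∈ lineAxes M x := by
    have h5 := lineAxes_conj hxχ (inv_mem hz)
    rw [inv_inv, hzix, hz'] at h5
    have h6 : χ ᵥ* zMat 4 ((-2 : F) • a) =
        χ - ((χ ⬝ᵥ (E 0 : Fin n → F)) • phi + (2 * (t * t)) • E 0) := covector_ext fun y => by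
      rw [← Matrix.dotProduct_mulVec, hzv]
      simp only [dotProduct_sub, dotProduct_add, dotProduct_smul, sub_dotProduct, add_dotProduct,
        smul_dotProduct, hχa, smul_eq_mul, E_dotProduct]
      ring
    rw [h6] at h5
    have h7 := Submodule.sub_mem _ (Submodule.sub_mem _ hxχ h5)
      (Submodule.smul_mem _ (χ ⬝ᵥ (E 0 : Fin n → F)) (mem_lineAxes_iff.2 hx))
    rw [sub_sub_cancel, add_sub_cancel_left] at h7
    have h8 := Submodule.smul_mem _ (2 * (t * t))⁻¹ h7
    rwa [smul_smul, inv_mul_cancel₀ (mul_ne_zero h2 (mul_ne_zero ht ht)), one_smul] at h8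
  have hvM : u * z ∈ M := mul_mem hu hz
  have hv' : ((u * z : GL (Fin n) F) : Matrix (Fin n) (Fin n) F) = vMat 4 ((-2 : F) • a) := by
    rw [Units.val_mul, hu', hz', vMat]
  exact specialLinear_le_of_axFull
    (axFull_of_lineCentres (by omega) hvM hv' hx0 hxl (mem_lineAxes_iff.1 hE)) hu hu'

theorem zMat_mulVec_two (hn : 3 ≤ n) (t : F) (x : Fin n → F) :
    zMat 0 (t • E (n - 1)) *ᵥ x = x - co x 1 • E 0 + (co x 0 * t) • E (n - 1) := by
  refine ext_co fun k hk => ?_
  rw [co_add, co_sub, co_smul, co_smul, co_E, co_E]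
  rcases k with _ | _ | k
  · rw [co_zMat_zero _ _ _ (by omega), if_pos ⟨hk, rfl⟩, if_neg (by omega)]; ring
  · rw [co_zMat_one _ _ _ (by omega), if_neg (by omega), if_neg (by omega)]; ring
  · rw [co_zMat_of_two_le _ _ _ (by omega), co_smul, co_E, if_neg (show ¬(k + 1 + 1 < n ∧ k + 1 + 1 = 0) by omega)]
    split_ifs <;> ring

/-- Generation in characteristic two. -/
theorem specialLinear_le_two (hn : 4 ≤ n) (h2 : (2 : F) = 0) {u z : GL (Fin n) F} (hu : u ∈ M)
    (hz : z ∈ M) {t : F} (hu' : (u : Matrix (Fin n) (Fin n) F) = uMat)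
    (hz' : (z : Matrix (Fin n) (Fin n) F) = zMat 0 (t • E (n - 1))) (ht : t ≠ 0)
    (hgen : Subring.closure ({t * t} : Set F) = ⊤) : specialLinear (Fin n) F ≤ M := by
  have hzv := zMat_mulVec_two (n := n) (by omega) t
  set e : Fin n → F := E (n - 1) with hedef
  have he0 : co e 0 = 0 := by rw [hedef, co_E, if_neg (by omega)]
  have he1 : co e 1 = 0 := by rw [hedef, co_E, if_neg (by omega)]
  have hneg : ∀ r : F, -r = r := fun r => by linear_combination (-r) * h2
  -- the transvection
  have hτ : HasTv M (t • e) (E 1) := by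
    refine ⟨by rw [dotProduct_smul, E_dotProduct, he1, smul_zero], ?_⟩
    have : tvec (t • e) (E 1) (by rw [dotProduct_smul, E_dotProduct, he1, smul_zero]) = z * z := by
      refine gl_ext_mulVec fun y => ?_
      rw [mul_mulVec, tvec_mulVec, hz', hzv y, hzv, E_dotProduct]
      refine ext_co fun k _ => ?_
      simp only [co_add, co_sub, co_smul, he0, he1, co_E]
      simp only [show 0 < n by omega, and_self, if_true, if_neg (show ¬(1 < n ∧ 1 = 0) by omega)]
      linear_combination
        (co y 1 * (if k < n ∧ k = 0 then (1 : F) else 0) + (co y 1 - co y 0) * t * co e k) * h2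
    rw [this]
    exact mul_mem hz hz
  set ui : Matrix (Fin n) (Fin n) F := ((u⁻¹ : GL (Fin n) F) : Matrix (Fin n) (Fin n) F)
  have huinv : ∀ w y : Fin n → F, uMat *ᵥ w = y → ui *ᵥ y = w := fun w y h => by
    rw [← h, ← hu']; exact inv_mulVec_mulVec u w
  have hones : ui *ᵥ e = vec fun _ => 1 := huinv _ _ (ext_co fun k hk => by
    rw [co_uMat_mulVec _ hk, hedef, co_E, co_vec, co_vec, if_pos hk]
    split_ifs <;> first | (exfalso; omega) | linear_combination h2 | ring)
  have hu0 : ui *ᵥ E 0 = E 0 := huinv _ _ (ext_co fun k hk => by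
    rw [co_uMat_mulVec _ hk, co_E, co_E, if_neg (show ¬(k + 1 < n ∧ k + 1 = 0) by omega), add_zero])
  set ue : Fin n → F := uMat *ᵥ e
  have hue : ∀ k, co ue k = co e k + co e (k + 1) := fun k => by
    by_cases hk : k < n
    · exact co_uMat_mulVec e hk
    · rw [co_of_le _ (by omega), co_of_le _ (by omega), co_of_le _ (by omega), add_zero]
  have hue0 : co ue 0 = 0 := by rw [hue, he0, hedef, co_E, if_neg (by omega), add_zero]
  have hue1 : co ue 1 = 0 := by rw [hue, he1, hedef, co_E, if_neg (by omega), add_zero]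
  -- the translate, split by `z`
  have hA0 : HasTv M ((t * t) • ue) (E 0) := by
    have h3 := hτ.conj hu
    rw [hu', Matrix.mulVec_smul] at h3
    have h4 := (h3.conj (inv_mem hz)).sub_axis (by
      have : ((z⁻¹ : GL (Fin n) F) : Matrix (Fin n) (Fin n) F) *ᵥ (t • ue) = t • ue := by
        conv_rhs => rw [← inv_mulVec_mulVec z (t • ue)]
        rw [hz', hzv, co_smul, co_smul, hue0, hue1]
        simp
      rw [this]
      exact h3)
    have hzi : ((z⁻¹ : GL (Fin n) F) : Matrix (Fin n) (Fin n) F) *ᵥ (t • ue) = t • ue := by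
      conv_rhs => rw [← inv_mulVec_mulVec z (t • ue)]
      rw [hz', hzv, co_smul, co_smul, hue0, hue1]
      simp
    rw [inv_inv, hzi, hz'] at h4
    have h5 : ((E 1 : Fin n → F) ᵥ* ui) ᵥ* zMat 0 (t • e) - (E 1 : Fin n → F) ᵥ* ui = t • E 0 :=
      covector_ext fun y => by
        rw [sub_dotProduct, ← Matrix.dotProduct_mulVec, hzv, ← Matrix.dotProduct_mulVec,
          ← Matrix.dotProduct_mulVec, Matrix.mulVec_add, Matrix.mulVec_sub, Matrix.mulVec_smul,
          Matrix.mulVec_smul, hones, hu0, dotProduct_add, dotProduct_sub, dotProduct_smul,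
          dotProduct_smul, E_dotProduct, E_dotProduct, E_dotProduct, smul_dotProduct, E_dotProduct,
          co_E, co_vec, if_neg (by omega), if_pos (by omega), smul_eq_mul, smul_eq_mul, smul_eq_mul]
        ring
    rw [h5, ← hasTv_smul_iff t ht, smul_smul] at h4
    exact h4
  have hvM : u * z ∈ M := mul_mem hu hz
  have hv' : ((u * z : GL (Fin n) F) : Matrix (Fin n) (Fin n) F) = vMat 0 (t • e) := by
    rw [Units.val_mul, hu', hz', vMat]
  have hV : ∀ y : Fin n → F, HasTv M y (E 0) → HasTv M (vMat 0 (t • e) *ᵥ y - y) (E 0) :=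
    fun y hy => hasTv_vMat (by omega) hvM hv' hy
  -- an adjacent sum gives the coordinate vectors
  have hcoord : ∀ r : F, HasTv M (r • ue) (E 0) → ∀ j, 1 ≤ j → HasTv M (r • (E j : Fin n → F)) (E 0) := by
    intro r hr
    have hadj : ∀ i, i + 1 ≤ n - 1 →
        HasTv M (r • ((E (n - 1 - i) : Fin n → F) + if i + 1 = n - 1 then 0 else E (n - 1 - (i + 1)))) (E 0) := by
      intro i
      induction i with
      | zero =>
        intro _
        convert! hr using 2
        refine ext_co fun k hk => ?_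
        rw [hue, co_add, if_neg (by omega), hedef, co_E, co_E, co_E, co_E]
        split_ifs <;> first | (exfalso; omega) | ring
      | succ i ih =>
        intro hi
        have h1 := hV _ (ih (by omega))
        rw [Matrix.mulVec_smul, ← smul_sub, if_neg (by omega)] at h1
        convert! h1 using 2
        refine ext_co fun k hk => ?_
        rw [co_shift (by omega) (by
          rw [co_add, co_E, co_E, if_neg (by omega), if_neg (by omega), add_zero])]
        by_cases h : i + 1 + 1 = n - 1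
        · rw [if_pos h, add_zero]
          simp only [co_add, co_E]
          split_ifs <;> first | (exfalso; omega) | ring
        · rw [if_neg h]
          simp only [co_add, co_E]
          split_ifs <;> first | (exfalso; omega) | ring
    intro j hj
    induction j, hj using Nat.le_induction with
    | base =>
      have := hadj (n - 2) (by omega)
      rwa [if_pos (by omega), add_zero, show n - 1 - (n - 2) = 1 by omega] at this
    | succ j hj ih =>
      by_cases hjn : j + 1 < n
      · have := hadj (n - 1 - (j + 1)) (by omega)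
        rw [if_neg (by omega), show n - 1 - (n - 1 - (j + 1)) = j + 1 by omega,
          show n - 1 - (n - 1 - (j + 1) + 1) = j by omega, smul_add] at this
        simpa using this.sub_center ih
      · rw [E_eq_zero (by omega), smul_zero]; exact hasTv_zero_left M _
  let D : AddSubgroup F :=
    { carrier := {r | ∀ j, 1 ≤ j → HasTv M (r • (E j : Fin n → F)) (E 0)}
      zero_mem' := fun j _ => by rw [zero_smul]; exact hasTv_zero_left M _
      add_mem' := fun {r s} hr hs j hj => by rw [add_smul]; exact (hr j hj).add_center (hs j hj)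
      neg_mem' := fun {r} hr j hj => by rw [neg_smul]; exact (hr j hj).neg_center }
  have hu1 : ui *ᵥ E 1 = E 1 - E 0 := huinv _ _ (ext_co fun k hk => by
    simp only [co_uMat_mulVec _ hk, co_sub, co_E, Nat.add_eq_zero_iff, one_ne_zero, and_false,
      if_false]
    split_ifs <;> first | (exfalso; omega) | ring)
  have hmul : ∀ a ∈ D, ∀ b ∈ D, a * b ∈ D := by
    intro a ha b hb
    have h3 := (hb (n - 1) (by omega)).conj hu
    rw [hu', Matrix.mulVec_smul] at h3
    have h4 := h3.comm (ha 1 le_rfl) (by rw [dotProduct_smul, E_dotProduct, hue0, smul_zero])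
    rw [← Matrix.dotProduct_mulVec, Matrix.mulVec_smul, hu1, dotProduct_smul,
      dotProduct_sub, E_dotProduct, E_dotProduct, co_E, co_E, if_neg (by omega),
      if_pos ⟨by omega, rfl⟩, zero_sub, smul_eq_mul, mul_neg, mul_one, hneg] at h4
    rcases eq_or_ne a 0 with rfl | ha0
    · rw [zero_mul]; exact D.zero_mem
    · rw [← hasTv_smul_iff a ha0, smul_smul] at h4
      exact hcoord _ h4
  have htt : t * t ∈ D := hcoord _ hA0
  have hall := forall_mem_of_generator (S := D) hgen htt (mul_ne_zero ht ht)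
    (fun x hx => hmul _ htt x hx)
  refine specialLinear_le_of_axFull (axFull_of_lineCentres (x := e) (by omega) hvM hv' he0 ?_ ?_) hu hu'
  · rw [hedef, co_E, if_pos ⟨by omega, rfl⟩]; exact one_ne_zero
  · exact fun r => hall r (n - 1) (by omega)

end CfsgLib.RegUnip
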