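import Cfsg.Agent.Geo.Transvection
import Mathlib.LinearAlgebra.Matrix.Charpoly.Coeff
import Mathlib.RingTheory.Nilpotent.Basic

/-!
# The standard pair of regular unipotent matrices

Coordinates are numbered from `0`.  `uMat` is the upper Jordan block, `zMat C R` is the identity off
the first two columns, `vMat C R = uMat * zMat C R` is regular unipotent with fixed line `e₁` and
fixed covector `e₀*`.
-/

set_option autoImplicit false

namespace CfsgLib.RegUnip

open Matrix Finset

variable {n : ℕ} {F : Type*} [Field F]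

/-- The coordinates of a vector as a sequence. -/
def co (x : Fin n → F) (k : ℕ) : F := if h : k < n then x ⟨k, h⟩ else 0

/-- The vector with given coordinates. -/
def vec (f : ℕ → F) : Fin n → F := fun i => f i.val

/-- A unit vector (zero when out of range). -/
def E (k : ℕ) : Fin n → F := vec fun j => if j = k then 1 else 0

theorem co_val (x : Fin n → F) (i : Fin n) : co x i.val = x i := by rw [co, dif_pos i.isLt]

theorem co_of_le (x : Fin n → F) {k : ℕ} (h : n ≤ k) : co x k = 0 := dif_neg (not_lt.2 h)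

theorem co_vec (f : ℕ → F) (k : ℕ) : co (vec f : Fin n → F) k = if k < n then f k else 0 := by
  rw [co]
  split_ifs <;> rfl

theorem co_E (j k : ℕ) : co (E j : Fin n → F) k = if k < n ∧ k = j then 1 else 0 := by
  rw [E, co_vec]
  split_ifs <;> first | rfl | (exfalso; omega)

theorem ext_co {x y : Fin n → F} (h : ∀ k, k < n → co x k = co y k) : x = y :=
  funext fun i => by simpa [co_val] using h i.val i.isLt

theorem co_add (x y : Fin n → F) (k : ℕ) : co (x + y) k = co x k + co y k := by
  rw [co, co, co]; split_ifs <;> simp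

theorem co_sub (x y : Fin n → F) (k : ℕ) : co (x - y) k = co x k - co y k := by
  rw [co, co, co]; split_ifs <;> simp

theorem co_smul (c : F) (x : Fin n → F) (k : ℕ) : co (c • x) k = c * co x k := by
  rw [co, co]; split_ifs <;> simp

theorem co_neg (x : Fin n → F) (k : ℕ) : co (-x) k = -co x k := by
  rw [co, co]; split_ifs <;> simp

theorem co_zero (k : ℕ) : co (0 : Fin n → F) k = 0 := by
  rw [co]; split_ifs <;> simp

theorem E_dotProduct (k : ℕ) (x : Fin n → F) : (E k : Fin n → F) ⬝ᵥ x = co x k := by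
  by_cases hk : k < n
  · rw [co, dif_pos hk, dotProduct, Finset.sum_eq_single ⟨k, hk⟩]
    · simp [E, vec]
    · intro b _ hb
      have : b.val ≠ k := fun h => hb (Fin.ext h)
      simp [E, vec, this]
    · simp
  · rw [co, dif_neg hk, dotProduct]
    refine Finset.sum_eq_zero fun b _ => ?_
    have : b.val ≠ k := fun h => hk (h ▸ b.isLt)
    simp [E, vec, this]

theorem E_eq_zero {k : ℕ} (h : n ≤ k) : (E k : Fin n → F) = 0 :=
  funext fun i => by
    have : i.val ≠ k := by omega
    simp [E, vec, this]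

theorem E_ne_zero {k : ℕ} (h : k < n) : (E k : Fin n → F) ≠ 0 := fun e => by
  have := congrFun e ⟨k, h⟩
  simp [E, vec] at this

theorem mem_of_forall_E (S : Submodule F (Fin n → F)) (h : ∀ k, k < n → (E k : Fin n → F) ∈ S) :
    S = ⊤ := by
  refine eq_top_iff.2 fun x _ => ?_
  have hx : x = ∑ i : Fin n, x i • (E i.val : Fin n → F) := by
    funext j
    rw [Finset.sum_apply, Finset.sum_eq_single j]
    · simp [E, vec]
    · intro b _ hb
      have : j.val ≠ b.val := fun e => hb (Fin.ext e).symm
      simp [E, vec, this]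
    · simp
  rw [hx]
  exact S.sum_mem fun i _ => S.smul_mem _ (h i.val i.isLt)

/-- The upper Jordan block. -/
def uMat : Matrix (Fin n) (Fin n) F :=
  Matrix.of fun i j => (if j.val = i.val then 1 else 0) + (if j.val = i.val + 1 then 1 else 0)

/-- The nilpotent part of the Jordan block. -/
def nMat : Matrix (Fin n) (Fin n) F := Matrix.of fun i j => if j.val = i.val + 1 then 1 else 0

theorem uMat_eq : (uMat : Matrix (Fin n) (Fin n) F) = 1 + nMat := by
  ext i j
  simp [uMat, nMat, Matrix.one_apply, Fin.ext_iff, eq_comm]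

theorem co_uMat_mulVec (x : Fin n → F) {k : ℕ} (hk : k < n) :
    co (uMat *ᵥ x) k = co x k + co x (k + 1) := by
  rw [co, dif_pos hk, ← E_dotProduct k x, ← E_dotProduct (k + 1) x, ← add_dotProduct]
  rfl

theorem uMat_blockTriangular : (uMat : Matrix (Fin n) (Fin n) F).IsUpperTriangular := fun i j h => by
  change j < i at h
  have h' : j.val < i.val := h
  simp only [uMat, Matrix.of_apply]
  rw [if_neg (by omega), if_neg (by omega), add_zero]

theorem det_uMat : (uMat : Matrix (Fin n) (Fin n) F).det = 1 := by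
  rw [Matrix.det_of_isUpperTriangular uMat_blockTriangular]
  exact Finset.prod_eq_one fun i _ => by simp [uMat]

/-- The upper Jordan block in `SL`. -/
def uSL : Matrix.SpecialLinearGroup (Fin n) F := ⟨uMat, det_uMat⟩

theorem coe_uSL : ((uSL : Matrix.SpecialLinearGroup (Fin n) F) : Matrix (Fin n) (Fin n) F) = uMat := rfl

theorem nMat_pow_apply (k : ℕ) (i j : Fin n) :
    ((nMat : Matrix (Fin n) (Fin n) F) ^ k) i j = if j.val = i.val + k then 1 else 0 := by
  induction k generalizing j with
  | zero => simp [Matrix.one_apply, Fin.ext_iff, eq_comm]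
  | succ k ih =>
    rw [pow_succ, Matrix.mul_apply]
    simp only [ih]
    simp only [nMat, Matrix.of_apply]
    by_cases h : j.val = i.val + (k + 1)
    · rw [if_pos h, Finset.sum_eq_single ⟨i.val + k, by omega⟩]
      · simp only [if_true, one_mul]
        rw [if_pos (by omega)]
      · intro b _ hb
        have : b.val ≠ i.val + k := fun e => hb (Fin.ext e)
        simp [this]
      · simp
    · rw [if_neg h]
      refine Finset.sum_eq_zero fun b _ => ?_
      split_ifs <;> first | (exfalso; omega) | simp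

theorem nMat_pow_card : (nMat : Matrix (Fin n) (Fin n) F) ^ n = 0 := by
  ext i j
  rw [nMat_pow_apply, if_neg (by omega), Matrix.zero_apply]

theorem nMat_pow_ne_zero (hn : 0 < n) : (nMat : Matrix (Fin n) (Fin n) F) ^ (n - 1) ≠ 0 := fun h => by
  have := congrFun (congrFun h ⟨0, hn⟩) ⟨n - 1, by omega⟩
  rw [nMat_pow_apply, if_pos (by simp)] at this
  simp at this

theorem uSL_regular (hn : 0 < n) :
    IsNilpotent (((uSL : Matrix.SpecialLinearGroup (Fin n) F) : Matrix (Fin n) (Fin n) F) - 1) ∧
      (((uSL : Matrix.SpecialLinearGroup (Fin n) F) : Matrix (Fin n) (Fin n) F) - 1) ^ (n - 1) ≠ 0 := by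
  rw [coe_uSL, uMat_eq, add_sub_cancel_left]
  exact ⟨⟨n, nMat_pow_card⟩, nMat_pow_ne_zero hn⟩

/-- The modification of the first two columns. -/
def zMat (C : F) (R : Fin n → F) : Matrix (Fin n) (Fin n) F :=
  Matrix.of fun i j =>
    if i.val = 0 then (if j.val = 0 then 1 - C else if j.val = 1 then -1 else 0)
    else if i.val = 1 then (if j.val = 0 then C else if j.val = 1 then 1 else 0)
    else (if j.val = i.val then 1 else 0) + (if j.val = 0 then R i else 0)

/-- The second regular unipotent matrix. -/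
def vMat (C : F) (R : Fin n → F) : Matrix (Fin n) (Fin n) F := uMat * zMat C R

theorem co_zMat_zero (C : F) (R x : Fin n → F) (hn : 2 ≤ n) :
    co (zMat C R *ᵥ x) 0 = (1 - C) * co x 0 - co x 1 := by
  have hrow : (fun j => zMat C R ⟨0, by omega⟩ j) = (1 - C) • (E 0 : Fin n → F) + (-1 : F) • E 1 := by
    funext j
    simp only [zMat, Matrix.of_apply, Pi.add_apply, Pi.smul_apply, E, vec, smul_eq_mul]
    split_ifs <;> first | (exfalso; omega) | ring
  rw [co, dif_pos (by omega : 0 < n), Matrix.mulVec]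
  change (fun j => zMat C R ⟨0, _⟩ j) ⬝ᵥ x = _
  rw [hrow, add_dotProduct, smul_dotProduct, smul_dotProduct, E_dotProduct, E_dotProduct]
  simp [sub_eq_add_neg]

theorem co_zMat_one (C : F) (R x : Fin n → F) (hn : 2 ≤ n) :
    co (zMat C R *ᵥ x) 1 = C * co x 0 + co x 1 := by
  have hrow : (fun j => zMat C R ⟨1, by omega⟩ j) = C • (E 0 : Fin n → F) + E 1 := by
    funext j
    simp only [zMat, Matrix.of_apply, Pi.add_apply, Pi.smul_apply, E, vec, smul_eq_mul]
    split_ifs <;> first | (exfalso; omega) | ring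
  rw [co, dif_pos (by omega : 1 < n), Matrix.mulVec]
  change (fun j => zMat C R ⟨1, _⟩ j) ⬝ᵥ x = _
  rw [hrow, add_dotProduct, smul_dotProduct, E_dotProduct, E_dotProduct]
  simp

theorem co_zMat_of_two_le (C : F) (R x : Fin n → F) {k : ℕ} (hk2 : 2 ≤ k) :
    co (zMat C R *ᵥ x) k = co x k + co R k * co x 0 := by
  by_cases hk : k < n
  · have hrow : (fun j => zMat C R ⟨k, hk⟩ j) = (E k : Fin n → F) + co R k • E 0 := by
      funext j
      simp only [zMat, Matrix.of_apply, Pi.add_apply, Pi.smul_apply, E, vec, smul_eq_mul, co,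
        dif_pos hk]
      split_ifs <;> first | (exfalso; omega) | ring
    rw [co, dif_pos hk, Matrix.mulVec]
    change (fun j => zMat C R ⟨k, _⟩ j) ⬝ᵥ x = _
    rw [hrow, add_dotProduct, smul_dotProduct, E_dotProduct, E_dotProduct]
    simp
  · rw [co_of_le _ (by omega), co_of_le _ (by omega), co_of_le _ (by omega)]
    ring

theorem co_vMat_zero (C : F) (R x : Fin n → F) (hn : 2 ≤ n) :
    co (vMat C R *ᵥ x) 0 = co x 0 := by
  rw [vMat, ← Matrix.mulVec_mulVec, co_uMat_mulVec _ (by omega), co_zMat_zero C R x hn,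
    co_zMat_one C R x hn]
  ring

/-- The first covector is fixed by `vMat`. -/
theorem E_zero_vecMul_vMat (C : F) (R : Fin n → F) (hn : 2 ≤ n) :
    (E 0 : Fin n → F) ᵥ* vMat C R = E 0 :=
  ext_dotProduct fun x => by
    rw [← Matrix.dotProduct_mulVec, E_dotProduct, E_dotProduct, co_vMat_zero C R x hn]
where
  ext_dotProduct {φ ψ : Fin n → F} (h : ∀ x, φ ⬝ᵥ x = ψ ⬝ᵥ x) : φ = ψ :=
    funext fun i => by simpa using h (Pi.single i 1)

/-- On the fixed hyperplane `vMat` is `1` plus the shift. -/
theorem co_vMat_of_zero (C : F) (R x : Fin n → F) (hn : 2 ≤ n) (hx : co x 0 = 0) {k : ℕ}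
    (hk1 : 1 ≤ k) (hk : k < n) : co (vMat C R *ᵥ x) k = co x k + co x (k + 1) := by
  rw [vMat, ← Matrix.mulVec_mulVec, co_uMat_mulVec _ hk,
    co_zMat_of_two_le C R x (k := k + 1) (by omega), hx, mul_zero, add_zero]
  rcases Nat.eq_or_lt_of_le hk1 with h | h
  · subst h
    rw [co_zMat_one C R x hn, hx, mul_zero, zero_add]
  · rw [co_zMat_of_two_le C R x h, hx, mul_zero, add_zero]

/-- The image of the first basis vector under `vMat - 1`. -/
def wVec (C : F) (R : Fin n → F) : Fin n → F := vMat C R *ᵥ E 0 - E 0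

theorem co_wVec_zero (C : F) (R : Fin n → F) (hn : 2 ≤ n) : co (wVec C R) 0 = 0 := by
  rw [wVec, co_sub, co_vMat_zero C R _ hn, sub_self]

theorem co_wVec_last (C : F) (R : Fin n → F) (hn : 3 ≤ n) :
    co (wVec C R) (n - 1) = co R (n - 1) := by
  rw [wVec, co_sub, vMat, ← Matrix.mulVec_mulVec, co_uMat_mulVec _ (by omega),
    co_of_le _ (by omega : n ≤ n - 1 + 1), co_zMat_of_two_le C R _ (by omega), co_E, co_E,
    if_neg (by omega), if_pos ⟨by omega, rfl⟩]
  ring

/-- The conjugating matrix: column `i` is a power of `vMat - 1` applied to the first basis vector. -/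
def gMat (C : F) (R : Fin n → F) (δ : F) : Matrix (Fin n) (Fin n) F :=
  Matrix.of fun j i =>
    if i.val = n - 1 then (if j.val = 0 then δ else 0)
    else if j.val = 0 then 0 else δ * co (wVec C R) (j.val + (n - 2 - i.val))

theorem det_gMat (C : F) (R : Fin n → F) (δ : F) (hn : 3 ≤ n) :
    (gMat C R δ).det = (-1) ^ (n - 1) * δ ^ n * co R (n - 1) ^ (n - 1) := by
  obtain ⟨m, rfl⟩ : ∃ m, n = m + 1 := ⟨n - 1, by omega⟩
  rw [Matrix.det_succ_row_zero, Finset.sum_eq_single (Fin.last m)]
  · have hsub : ((gMat C R δ).submatrix Fin.succ (Fin.last m).succAbove) =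
        Matrix.of fun j i : Fin m => δ * co (wVec C R) (j.val + 1 + (m + 1 - 2 - i.val)) := by
      ext j i
      have hi : i.val ≠ m := i.isLt.ne
      simp [gMat, Fin.succAbove_last, hi]
    rw [hsub, Matrix.det_of_isUpperTriangular (fun j i (h : i < j) => by
      have h' : i.val < j.val := h
      simp only [Matrix.of_apply]
      rw [co_of_le _ (by omega), mul_zero])]
    simp only [Matrix.of_apply]
    rw [Finset.prod_congr rfl fun i _ => show δ * co (wVec C R) (i.val + 1 + (m + 1 - 2 - i.val)) =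
        δ * co R m by
      rw [show i.val + 1 + (m + 1 - 2 - i.val) = m + 1 - 1 by omega, co_wVec_last C R hn,
        Nat.add_sub_cancel],
      Finset.prod_const, Finset.card_univ, Fintype.card_fin, mul_pow]
    simp only [gMat, Matrix.of_apply, Fin.val_last, Fin.val_zero, Nat.add_sub_cancel, if_true]
    ring
  · intro b _ hb
    have : b.val ≠ m := fun e => hb (Fin.ext e)
    simp [gMat, this]
  · simp

theorem co_gMat_col (C : F) (R : Fin n → F) (δ : F) (i : ℕ) (hi : i < n) {k : ℕ} (hk : k < n) :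
    co (gMat C R δ *ᵥ E i) k = if i = n - 1 then (if k = 0 then δ else 0)
      else if k = 0 then 0 else δ * co (wVec C R) (k + (n - 2 - i)) := by
  have : (gMat C R δ *ᵥ E i) = fun j => gMat C R δ j ⟨i, hi⟩ := by
    funext j
    rw [Matrix.mulVec, dotProduct_comm, E_dotProduct, co, dif_pos hi]
  rw [this, co, dif_pos hk]
  rfl

theorem gMat_mul (C : F) (R : Fin n → F) (δ : F) (hn : 3 ≤ n) :
    gMat C R δ * uMat = vMat C R * gMat C R δ := by
  refine Matrix.ext_of_mulVec_single fun i => ?_
  have hE : (Pi.single i 1 : Fin n → F) = E i.val := by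
    funext j; simp [E, vec, Pi.single_apply, Fin.ext_iff]
  rw [hE, ← Matrix.mulVec_mulVec, ← Matrix.mulVec_mulVec]
  have hu : uMat *ᵥ (E i.val : Fin n → F) = E i.val + if i.val = 0 then 0 else E (i.val - 1) := by
    refine ext_co fun k hk => ?_
    rw [co_uMat_mulVec _ hk, co_add, co_E, co_E]
    split_ifs with h1 h2 h3 <;> simp only [co_zero, co_E] <;>
      first
        | (exfalso; omega)
        | rw [if_pos (by omega)]
        | rw [if_neg (by omega)]
  rw [hu, Matrix.mulVec_add]
  refine ext_co fun k hk => ?_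
  have hlast : i.val = n - 1 → gMat C R δ *ᵥ E i.val = δ • (E 0 : Fin n → F) := fun h => by
    refine ext_co fun j hj => ?_
    rw [co_gMat_col C R δ _ i.isLt hj, if_pos h, co_smul, co_E]
    split_ifs <;> first | (exfalso; omega) | simp
  rw [co_add]
  by_cases hi0 : i.val = 0
  · rw [if_pos hi0, Matrix.mulVec_zero, co_zero, add_zero]
    have h0 : co (gMat C R δ *ᵥ E i.val) 0 = 0 := by
      rw [co_gMat_col C R δ _ i.isLt (by omega), if_neg (by omega), if_pos rfl]
    rcases Nat.eq_zero_or_pos k with rfl | hk0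
    · rw [co_vMat_zero C R _ (by omega)]
    · rw [co_vMat_of_zero C R _ (by omega) h0 hk0 hk, left_eq_add]
      by_cases hk1 : k + 1 < n
      · rw [co_gMat_col C R δ _ i.isLt hk1, if_neg (by omega), if_neg (by omega),
          co_of_le _ (by omega), mul_zero]
      · exact co_of_le _ (by omega)
  rw [if_neg hi0]
  by_cases hil : i.val = n - 1
  · rw [hlast hil, Matrix.mulVec_smul, co_smul, co_smul, co_gMat_col C R δ _ (by omega) hk,
      if_neg (by omega)]
    have : co (vMat C R *ᵥ E 0) k = co (E 0 : Fin n → F) k + co (wVec C R) k := by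
      rw [wVec, co_sub]; ring
    rw [this]
    by_cases hk0 : k = 0
    · subst hk0
      rw [if_pos rfl, co_wVec_zero C R (by omega)]
      ring
    · rw [if_neg hk0, show k + (n - 2 - (i.val - 1)) = k by omega]
      ring
  · have h0 : co (gMat C R δ *ᵥ E i.val) 0 = 0 := by
      rw [co_gMat_col C R δ _ i.isLt (by omega), if_neg hil, if_pos rfl]
    rcases Nat.eq_zero_or_pos k with rfl | hk0
    · rw [co_vMat_zero C R _ (by omega), h0, co_gMat_col C R δ _ (by omega) hk, if_neg (by omega),
        if_pos rfl, add_zero]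
    · rw [co_vMat_of_zero C R _ (by omega) h0 hk0 hk, add_right_inj,
        co_gMat_col C R δ _ (by omega) hk, if_neg (by omega), if_neg (by omega)]
      by_cases hk1 : k + 1 < n
      · rw [co_gMat_col C R δ _ i.isLt hk1, if_neg hil, if_neg (by omega),
          show k + (n - 2 - (i.val - 1)) = k + 1 + (n - 2 - i.val) by omega]
      · rw [co_of_le _ (by omega), co_of_le _ (by omega), mul_zero]

/-- `vMat` is conjugate to the Jordan block in `SL` when the last parameter is a signed `n`-th power. -/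
theorem exists_conj (C : F) (R : Fin n → F) (hn : 3 ≤ n) (γ : F) (hγ : γ ≠ 0)
    (hR : co R (n - 1) = (-1) ^ (n - 1) * γ ^ n) :
    ∃ g : Matrix.SpecialLinearGroup (Fin n) F,
      ((g * uSL * g⁻¹ : Matrix.SpecialLinearGroup (Fin n) F) : Matrix (Fin n) (Fin n) F) = vMat C R := by
  have hdet : (gMat C R (γ / co R (n - 1))).det = 1 := by
    rw [det_gMat C R _ hn, hR]
    obtain ⟨m, rfl⟩ : ∃ m, n = m + 1 := ⟨n - 1, by omega⟩
    have h1 : ((-1 : F) ^ m) ≠ 0 := pow_ne_zero _ (by simp)
    rw [Nat.add_sub_cancel, div_pow]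
    field_simp
    ring
  let g : Matrix.SpecialLinearGroup (Fin n) F := ⟨gMat C R (γ / co R (n - 1)), hdet⟩
  refine ⟨g, ?_⟩
  have hm := gMat_mul C R (γ / co R (n - 1)) hn
  have hg : (g : Matrix (Fin n) (Fin n) F) * ((g⁻¹ : Matrix.SpecialLinearGroup (Fin n) F) : Matrix (Fin n) (Fin n) F) = 1 := by
    rw [← Matrix.SpecialLinearGroup.coe_mul, mul_inv_cancel, Matrix.SpecialLinearGroup.coe_one]
  rw [Matrix.SpecialLinearGroup.coe_mul, Matrix.SpecialLinearGroup.coe_mul, coe_uSL]
  change gMat C R (γ / co R (n - 1)) * uMat * _ = _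
  rw [hm, mul_assoc]
  change vMat C R * ((g : Matrix (Fin n) (Fin n) F) * _) = _
  rw [hg, mul_one]

/-- Conjugates of a regular unipotent are regular unipotent. -/
theorem regular_conj (g : Matrix.SpecialLinearGroup (Fin n) F) (u : Matrix.SpecialLinearGroup (Fin n) F)
    (hu : IsNilpotent ((u : Matrix (Fin n) (Fin n) F) - 1) ∧
      ((u : Matrix (Fin n) (Fin n) F) - 1) ^ (n - 1) ≠ 0) :
    IsNilpotent (((g * u * g⁻¹ : Matrix.SpecialLinearGroup (Fin n) F) : Matrix (Fin n) (Fin n) F) - 1) ∧
      (((g * u * g⁻¹ : Matrix.SpecialLinearGroup (Fin n) F) : Matrix (Fin n) (Fin n) F) - 1) ^ (n - 1) ≠ 0 := by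
  let U : (Matrix (Fin n) (Fin n) F)ˣ := Matrix.SpecialLinearGroup.toGL g
  have hU : ((g * u * g⁻¹ : Matrix.SpecialLinearGroup (Fin n) F) : Matrix (Fin n) (Fin n) F) - 1 =
      (U : Matrix (Fin n) (Fin n) F) * ((u : Matrix (Fin n) (Fin n) F) - 1) *
        ((U⁻¹ : (Matrix (Fin n) (Fin n) F)ˣ) : Matrix (Fin n) (Fin n) F) := by
    rw [Matrix.SpecialLinearGroup.coe_mul, Matrix.SpecialLinearGroup.coe_mul, mul_sub, sub_mul, mul_one,
      Units.mul_inv, ← map_inv]
    rfl
  rw [hU]
  obtain ⟨⟨k, hk⟩, hne⟩ := hu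
  refine ⟨⟨k, ?_⟩, ?_⟩
  · rw [Units.conj_pow, hk, mul_zero, zero_mul]
  · rw [Units.conj_pow]
    rw [Ne, Units.mul_left_eq_zero, Units.mul_right_eq_zero]
    exact hne

end CfsgLib.RegUnip
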