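import Cfsg.Agent.RegUnip.Three
import Mathlib.LinearAlgebra.Matrix.SpecialLinearGroup

/-!
# Special linear groups from regular unipotent elements: the wrappers
-/

set_option autoImplicit false

namespace CfsgLib.RegUnip

open Matrix Cfsg Cfsg.Geo CfsgLib.Geo

variable {n : ℕ} {F : Type*} [Field F]

/-- Regular unipotent. -/
def IsRegU (u : Matrix.SpecialLinearGroup (Fin n) F) : Prop :=
  IsNilpotent ((u : Matrix (Fin n) (Fin n) F) - 1) ∧ ((u : Matrix (Fin n) (Fin n) F) - 1) ^ (n - 1) ≠ 0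

theorem closure_eq_top_of_le (S : Set (Matrix.SpecialLinearGroup (Fin n) F))
    (h : specialLinear (Fin n) F ≤ (Subgroup.closure S).map Matrix.SpecialLinearGroup.toGL) :
    Subgroup.closure S = ⊤ := by
  refine eq_top_iff.2 fun g _ => ?_
  have hg : Matrix.SpecialLinearGroup.toGL g ∈ specialLinear (Fin n) F := mem_specialLinear.2 g.2
  obtain ⟨x, hx, hxg⟩ := h hg
  rwa [← Matrix.SpecialLinearGroup.toGL_injective hxg]

theorem mem_map_toGL {S : Set (Matrix.SpecialLinearGroup (Fin n) F)} {g : Matrix.SpecialLinearGroup (Fin n) F}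
    (hg : g ∈ Subgroup.closure S) :
    Matrix.SpecialLinearGroup.toGL g ∈ (Subgroup.closure S).map Matrix.SpecialLinearGroup.toGL :=
  Subgroup.mem_map_of_mem _ hg

theorem closure_pair_eq_top (v : Matrix.SpecialLinearGroup (Fin n) F) {C : F} {R : Fin n → F}
    (hv : (v : Matrix (Fin n) (Fin n) F) = vMat C R)
    (H : ∀ (M : Subgroup (GL (Fin n) F)) (u z : GL (Fin n) F), u ∈ M → z ∈ M →
      (u : Matrix (Fin n) (Fin n) F) = uMat → (z : Matrix (Fin n) (Fin n) F) = zMat C R →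
      specialLinear (Fin n) F ≤ M) :
    Subgroup.closure ({uSL, v} : Set (Matrix.SpecialLinearGroup (Fin n) F)) = ⊤ := by
  refine closure_eq_top_of_le _ (H _ (Matrix.SpecialLinearGroup.toGL uSL)
    (Matrix.SpecialLinearGroup.toGL (uSL⁻¹ * v)) (mem_map_toGL (Subgroup.subset_closure (by simp)))
    (mem_map_toGL (mul_mem (inv_mem (Subgroup.subset_closure (by simp))) (Subgroup.subset_closure (by simp))))
    rfl ?_)
  change ((uSL⁻¹ * v : Matrix.SpecialLinearGroup (Fin n) F) : Matrix (Fin n) (Fin n) F) = _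
  rw [Matrix.SpecialLinearGroup.coe_mul, hv, vMat, ← mul_assoc, ← coe_uSL (n := n) (F := F),
    ← Matrix.SpecialLinearGroup.coe_mul, inv_mul_cancel, Matrix.SpecialLinearGroup.coe_one, one_mul]

theorem closure_low_eq_top (v : Matrix.SpecialLinearGroup (Fin 3) F) {r s c : F}
    (hv : (v : Matrix (Fin 3) (Fin 3) F) = lowMat r s c)
    (H : ∀ (M : Subgroup (GL (Fin 3) F)) (u w : GL (Fin 3) F), u ∈ M → w ∈ M →
      (u : Matrix (Fin 3) (Fin 3) F) = uMat → (w : Matrix (Fin 3) (Fin 3) F) = lowMat r s c →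
      specialLinear (Fin 3) F ≤ M) :
    Subgroup.closure ({uSL, v} : Set (Matrix.SpecialLinearGroup (Fin 3) F)) = ⊤ :=
  closure_eq_top_of_le _ (H _ (Matrix.SpecialLinearGroup.toGL uSL) (Matrix.SpecialLinearGroup.toGL v)
    (mem_map_toGL (Subgroup.subset_closure (by simp))) (mem_map_toGL (Subgroup.subset_closure (by simp)))
    rfl hv)

/-- A second regular unipotent element. -/
theorem exists_sl (hn : 3 ≤ n) (C : F) (R : Fin n → F) (hR : co R (n - 1) ≠ 0) :
    ∃ v : Matrix.SpecialLinearGroup (Fin n) F,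
      (v : Matrix (Fin n) (Fin n) F) = vMat C R ∧ IsRegU v := by
  have hd : (gMat C R 1).det ≠ 0 := by
    rw [det_gMat C R 1 hn, one_pow, mul_one]
    exact mul_ne_zero (pow_ne_zero _ (by simp)) (pow_ne_zero _ hR)
  have hm := gMat_mul C R 1 hn
  have hv : (vMat C R).det = 1 := by
    have := congrArg Matrix.det hm
    rw [Matrix.det_mul, Matrix.det_mul, det_uMat, mul_one] at this
    exact (mul_eq_right₀ hd).1 this.symm
  refine ⟨⟨vMat C R, hv⟩, rfl, ?_⟩
  have hs : SemiconjBy (gMat C R 1) (uMat - 1) (vMat C R - 1) := by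
    change gMat C R 1 * (uMat - 1) = (vMat C R - 1) * gMat C R 1
    rw [mul_sub, sub_mul, hm, mul_one, one_mul]
  have hu : IsUnit (gMat C R 1) := (Matrix.isUnit_iff_isUnit_det _).2 (isUnit_iff_ne_zero.2 hd)
  obtain ⟨⟨k, hk⟩, hne⟩ := uSL_regular (n := n) (F := F) (by omega)
  rw [coe_uSL] at hk hne
  refine ⟨⟨k, ?_⟩, fun h => hne ?_⟩
  · have h1 := hs.pow_right k
    rw [SemiconjBy, hk, mul_zero] at h1
    exact hu.mul_left_eq_zero.1 h1.symm
  · have h1 := hs.pow_right (n - 1)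
    rw [SemiconjBy] at h1
    change (vMat C R - 1) ^ (n - 1) = 0 at h
    rw [h, zero_mul] at h1
    exact hu.mul_right_eq_zero.1 h1

/-- Generation by the odd pair, in terms of coordinates. -/
theorem gen_odd (hn : 3 ≤ n) (h2 : (2 : F) ≠ 0) (v : Matrix.SpecialLinearGroup (Fin n) F)
    {a b : Fin n → F} {c : F} (k : ℕ) (hv : (v : Matrix (Fin n) (Fin n) F) = vMat 4 ((-2 : F) • a))
    (h0 : co a 0 = 1) (h1 : co a 1 = -2) (hb : uMat ^ k *ᵥ b = a)
    (horth : phi ⬝ᵥ (uMat ^ k *ᵥ a) = 0) (ht : phi ⬝ᵥ b ≠ 0)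
    (hσ : c = 0 ∨ phi ⬝ᵥ (uMat ^ k *ᵥ (uMat ^ k *ᵥ a)) ≠ 0)
    (hx0 : co (uMat ^ k *ᵥ a + c • a) 0 = 0) (hx1 : co (uMat ^ k *ᵥ a + c • a) 1 = 0)
    (hxl : co (uMat ^ k *ᵥ a + c • a) (n - 1) ≠ 0)
    (hgen : Subring.closure ({4 * (phi ⬝ᵥ b) * c} : Set F) = ⊤) :
    Subgroup.closure ({uSL, v} : Set (Matrix.SpecialLinearGroup (Fin n) F)) = ⊤ := by
  refine closure_pair_eq_top v hv fun M u z hu hz hu' hz' => ?_
  have hU : ((u ^ k : GL (Fin n) F) : Matrix (Fin n) (Fin n) F) = uMat ^ k := by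
    rw [Units.val_pow_eq_pow_val, hu']
  have hUi : (((u ^ k)⁻¹ : GL (Fin n) F) : Matrix (Fin n) (Fin n) F) *ᵥ a = b := by
    conv_lhs => rw [← hb, ← hU]
    exact inv_mulVec_mulVec _ _
  exact specialLinear_le_odd hn h2 hu hz (pow_mem hu k) (a := a) (c := c) h0 h1 hu' hz'
    (by rw [hU]; exact horth) (by rw [hUi]; exact ht) (by rw [hU]; exact hσ)
    (by rw [hU]; exact hx0) (by rw [hU]; exact hx1) (by rw [hU]; exact hxl)
    (by rw [hUi]; exact hgen)

theorem co_uMat_mulVec' (x : Fin n → F) (k : ℕ) : co (uMat *ᵥ x) k = co x k + co x (k + 1) := by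
  by_cases hk : k < n
  · exact co_uMat_mulVec x hk
  · rw [co_of_le _ (by omega), co_of_le _ (by omega), co_of_le _ (by omega), add_zero]

/-- The covector `φ` pulled back along the Jordan block. -/
def psi : Fin n → F := vec fun j => if j = 0 then 2 else (-1) ^ j

theorem psi_vecMul (hn : 2 ≤ n) : (psi : Fin n → F) ᵥ* uMat = phi := by
  funext j
  have hj : (fun i => uMat i j) = (E j.val : Fin n → F) + if j.val = 0 then 0 else E (j.val - 1) := by
    funext i
    simp only [uMat, Matrix.of_apply, Pi.add_apply, E, vec]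
    split_ifs <;> simp only [Pi.zero_apply, E, vec] <;> first | (exfalso; omega) | rfl | skip
    all_goals (split_ifs <;> first | (exfalso; omega) | rfl)
  change psi ⬝ᵥ (fun i => uMat i j) = _
  rw [hj, dotProduct_comm, add_dotProduct, E_dotProduct, ← co_val (phi : Fin n → F) j]
  rcases hjv : j.val with _ | _ | m
  · simp [psi, phi, co_vec, co_add, co_smul, co_E, show 0 < n by omega]
  · simp [psi, phi, co_vec, co_add, co_smul, co_E, E_dotProduct, show 1 < n by omega, show 0 < n by omega]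
    norm_num
  · simp [psi, phi, co_vec, co_add, co_smul, co_E, E_dotProduct, show m + 1 + 1 < n by omega,
      show m + 1 < n by omega, pow_succ]

/-- The odd pair with `U` the Jordan block itself. -/
theorem gen_odd_one (hn : 3 ≤ n) (h2 : (2 : F) ≠ 0) (v : Matrix.SpecialLinearGroup (Fin n) F)
    {a : Fin n → F} (hv : (v : Matrix (Fin n) (Fin n) F) = vMat 4 ((-2 : F) • a))
    (h0 : co a 0 = 1) (h1 : co a 1 = -2) (ha2 : co a 2 = 4) (hl : co a (n - 1) ≠ 0)
    (hσ : 8 + co a 3 ≠ 0) (ht : psi ⬝ᵥ a ≠ 0)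
    (hgen : Subring.closure ({4 * (psi ⬝ᵥ a)} : Set F) = ⊤) :
    Subgroup.closure ({uSL, v} : Set (Matrix.SpecialLinearGroup (Fin n) F)) = ⊤ := by
  set ui : Matrix (Fin n) (Fin n) F :=
    ((uSL⁻¹ : Matrix.SpecialLinearGroup (Fin n) F) : Matrix (Fin n) (Fin n) F)
  have hinv : uMat * ui = 1 := by
    rw [← coe_uSL (n := n) (F := F), ← Matrix.SpecialLinearGroup.coe_mul, mul_inv_cancel,
      Matrix.SpecialLinearGroup.coe_one]
  have ht' : phi ⬝ᵥ (ui *ᵥ a) = psi ⬝ᵥ a := by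
    rw [← psi_vecMul (by omega), ← Matrix.dotProduct_mulVec, Matrix.mulVec_mulVec, hinv, Matrix.one_mulVec]
  refine gen_odd hn h2 v (b := ui *ᵥ a) (c := 1) 1 hv h0 h1
    (by rw [pow_one, Matrix.mulVec_mulVec, hinv, Matrix.one_mulVec]) ?_ (ht' ▸ ht) (Or.inr ?_) ?_ ?_ ?_
    (by rw [ht', mul_one]; exact hgen)
  · rw [pow_one, phi_dot, co_uMat_mulVec', co_uMat_mulVec', h0, h1, ha2]; ring
  · rw [pow_one, phi_dot]
    simp only [co_uMat_mulVec']
    rw [h0, h1, ha2]
    convert hσ using 1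
    ring
  · rw [pow_one, one_smul, co_add, co_uMat_mulVec', h0, h1]; ring
  · rw [pow_one, one_smul, co_add, co_uMat_mulVec', h1, ha2]; ring
  · rw [pow_one, one_smul, co_add, co_uMat_mulVec', co_of_le a (by omega : n ≤ n - 1 + 1), add_zero,
      ← two_mul]
    exact mul_ne_zero h2 hl

/-- The vectors used in odd characteristic. -/
def oddVec (β α : F) : Fin n → F :=
  (E 0 : Fin n → F) + (-2 : F) • E 1 + (4 : F) • E 2 + β • E (n - 2) + α • E (n - 1)

theorem co_oddVec (β α : F) {k : ℕ} (hk : k < n) :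
    co (oddVec β α : Fin n → F) k = (if k = 0 then 1 else 0) + (-2) * (if k = 1 then 1 else 0) +
      4 * (if k = 2 then 1 else 0) + β * (if k = n - 2 then 1 else 0) +
      α * (if k = n - 1 then 1 else 0) := by
  simp only [oddVec, co_add, co_smul, co_E, hk, true_and]

theorem psi_oddVec (hn : 3 ≤ n) (β α : F) :
    (psi : Fin n → F) ⬝ᵥ oddVec β α = 8 + (-1) ^ n * (β - α) := by
  rw [dotProduct_comm, oddVec]
  simp only [add_dotProduct, smul_dotProduct, E_dotProduct, psi, co_vec, smul_eq_mul,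
    show 0 < n by omega, show 1 < n by omega, show 2 < n by omega, show n - 2 < n by omega,
    show n - 1 < n by omega, if_true, if_neg one_ne_zero, if_neg two_ne_zero,
    if_neg (show n - 2 ≠ 0 by omega), if_neg (show n - 1 ≠ 0 by omega)]
  obtain ⟨m, rfl⟩ : ∃ m, n = m + 2 := ⟨n - 2, by omega⟩
  rw [show m + 2 - 2 = m by omega, show m + 2 - 1 = m + 1 by omega]
  ring

end CfsgLib.RegUnip
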