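import Cfsg.Agent.RegUnip.Inst
import Cfsg.Agent.RegUnip.Gen

/-!
# Two conjugate regular unipotent elements over a prime field
-/

set_option autoImplicit false

namespace CfsgLib.RegUnip

open Matrix Cfsg Cfsg.Geo CfsgLib.Geo

variable {n : ℕ} {F : Type*} [Field F]

theorem conj_of_vMat (hn : 3 ≤ n) (C : F) (R : Fin n → F) (γ : F) (hγ : γ ≠ 0)
    (hR : co R (n - 1) = (-1) ^ (n - 1) * γ ^ n) :
    ∃ g : Matrix.SpecialLinearGroup (Fin n) F,
      ((g * uSL * g⁻¹ : Matrix.SpecialLinearGroup (Fin n) F) : Matrix (Fin n) (Fin n) F) = vMat C R :=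
  exists_conj C R hn γ hγ hR

/-- The special vectors for degree four in characteristics three and five. -/
theorem gen_four_small (h2 : (2 : F) ≠ 0) {α c : F} (hα : 2 * α = 1)
    (hgen : ∀ x : F, Subring.closure ({x} : Set F) = ⊤)
    (h35 : (3 : F) = 0 ∧ c = 0 ∨ (5 : F) = 0 ∧ c = -2) :
    ∃ g : Matrix.SpecialLinearGroup (Fin 4) F,
      Subgroup.closure ({uSL, g * uSL * g⁻¹} : Set (Matrix.SpecialLinearGroup (Fin 4) F)) = ⊤ := by
  let a : Fin 4 → F := vec fun j => if j = 0 then 1 else if j = 1 then -2 else if j = 2 then 0 else α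
  let b : Fin 4 → F := vec fun j => if j = 0 then 5 - 4 * α else if j = 1 then -2 + 3 * α
    else if j = 2 then -2 * α else α
  have hα0 : α ≠ 0 := fun h => by simp [h] at hα
  obtain ⟨g, hg⟩ := exists_conj (n := 4) 4 ((-2 : F) • a) (by norm_num) 1 one_ne_zero (by
    rw [co_smul]; simp [a, co_vec]; linear_combination -hα)
  have hu2 : ∀ (x : Fin 4 → F) k, co (uMat ^ 2 *ᵥ x) k = co x k + 2 * co x (k + 1) + co x (k + 2) := by
    intro x k
    rw [pow_two, ← Matrix.mulVec_mulVec, co_uMat_mulVec', co_uMat_mulVec', co_uMat_mulVec']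
    ring
  refine ⟨g, gen_odd (by norm_num) h2 _ (a := a) (b := b) (c := c) 2 hg (by simp [a, co_vec])
    (by simp [a, co_vec]) ?_ ?_ ?_ ?_ ?_ ?_ ?_ (hgen _)⟩
  · refine ext_co fun k hk => ?_
    rw [hu2]
    rcases k with _ | _ | _ | _ | k <;> simp [a, b, co_vec] <;> first | (exfalso; omega) | ring
  · simp [phi_dot, hu2, a, co_vec]
    refine mul_left_cancel₀ h2 ?_
    rcases h35 with ⟨h, -⟩ | ⟨h, -⟩
    · linear_combination (-5 : F) * h + hα
    · linear_combination (-3 : F) * h + hα
  · simp [phi_dot, b, co_vec]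
    intro e
    refine one_ne_zero (α := F) ?_
    rcases h35 with ⟨h, -⟩ | ⟨h, -⟩
    · linear_combination 4 * h - 5 * hα - 2 * e
    · linear_combination (2 * α - 3) * h + 2 * e
  · rcases h35 with ⟨-, hc⟩ | ⟨h, -⟩
    · exact Or.inl hc
    · refine Or.inr ?_
      simp only [phi_dot, hu2]
      simp [a, co_vec]
      intro e
      refine one_ne_zero (α := F) ?_
      linear_combination e - 7 * hα + 2 * h
  · simp [hu2, co_add, co_smul, a, co_vec]
    rcases h35 with ⟨h, hc⟩ | ⟨h, hc⟩ <;> subst hc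
    · linear_combination (-1 : F) * h
    · linear_combination (-1 : F) * h
  · simp [hu2, co_add, co_smul, a, co_vec]
    refine mul_left_cancel₀ h2 ?_
    rcases h35 with ⟨h, hc⟩ | ⟨h, hc⟩ <;> subst hc
    · linear_combination (-1 : F) * h + hα
    · linear_combination h + hα
  · simp [hu2, co_add, co_smul, a, co_vec]
    intro e
    apply hα0
    rcases h35 with ⟨h, hc⟩ | ⟨h, hc⟩ <;> subst hc
    · linear_combination e
    · linear_combination -e

/-- Degree at least five: two free coordinates. -/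
theorem gen_five (hn : 5 ≤ n) (h2 : (2 : F) ≠ 0) (hgen : ∀ x : F, Subring.closure ({x} : Set F) = ⊤) :
    ∃ g : Matrix.SpecialLinearGroup (Fin n) F,
      Subgroup.closure ({uSL, g * uSL * g⁻¹} : Set (Matrix.SpecialLinearGroup (Fin n) F)) = ⊤ := by
  set α : F := (-1) ^ n / 2 with hαdef
  have hsign : ((-1 : F) ^ n) * (-1) ^ n = 1 := by rw [← mul_pow, neg_one_mul, neg_neg, one_pow]
  have hα0 : α ≠ 0 := div_ne_zero (pow_ne_zero _ (by simp)) h2
  obtain ⟨T, hT, hσ⟩ : ∃ T : F, T ≠ 0 ∧
      8 + (α + (-1) ^ n * (T - 8)) * (if 3 = n - 2 then 1 else 0) ≠ 0 := by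
    by_cases h5 : n = 5
    · subst h5
      by_contra hc
      push Not at hc
      have e1 := hc 1 one_ne_zero
      have e2 := hc (-1) (by simp)
      simp at e1 e2
      exact h2 (by linear_combination -(e1 - e2))
    · exact ⟨1, one_ne_zero, by rw [if_neg (by omega), mul_zero, add_zero]; exact fun e => h2 (by
        have : (2 : F) ^ 3 = 0 := by linear_combination e
        exact (pow_eq_zero_iff three_ne_zero).1 this)⟩
  set a : Fin n → F := oddVec (α + (-1) ^ n * (T - 8)) α with ha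
  have hco := fun k (hk : k < n) => co_oddVec (n := n) (α + (-1) ^ n * (T - 8)) α hk
  have hl : co a (n - 1) = α := by
    rw [ha, hco _ (by omega), if_neg (by omega), if_neg (by omega), if_neg (by omega),
      if_neg (by omega), if_pos rfl]
    ring
  obtain ⟨g, hg⟩ := exists_conj (n := n) 4 ((-2 : F) • a) (by omega) 1 one_ne_zero (by
    obtain ⟨m, rfl⟩ : ∃ m, n = m + 1 := ⟨n - 1, by omega⟩
    rw [co_smul, hl, hαdef, Nat.add_sub_cancel, pow_succ]
    field_simp
    ring)
  have hψ : psi ⬝ᵥ a = T := by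
    rw [ha, psi_oddVec (by omega)]
    linear_combination (T - 8) * hsign
  refine ⟨g, gen_odd_one (by omega) h2 _ hg ?_ ?_ ?_ (hl ▸ hα0) ?_ (hψ ▸ hT) (hgen _)⟩
  · rw [ha, hco _ (by omega), if_pos rfl, if_neg (by omega), if_neg (by omega), if_neg (by omega),
      if_neg (by omega)]
    ring
  · rw [ha, hco _ (by omega), if_neg (by omega), if_pos rfl, if_neg (by omega), if_neg (by omega),
      if_neg (by omega)]
    ring
  · rw [ha, hco _ (by omega), if_neg (by omega), if_neg (by omega), if_pos rfl, if_neg (by omega),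
      if_neg (by omega)]
    ring
  · rw [ha, hco _ (by omega), if_neg (by omega), if_neg (by omega), if_neg (by omega),
      if_neg (show ¬(3 = n - 1) by omega)]
    convert hσ using 1
    ring

/-- Degree three. -/
theorem gen_three_prime (h2 : (2 : F) ≠ 0) (hgen : ∀ x : F, Subring.closure ({x} : Set F) = ⊤) :
    ∃ g : Matrix.SpecialLinearGroup (Fin 3) F,
      Subgroup.closure ({uSL, g * uSL * g⁻¹} : Set (Matrix.SpecialLinearGroup (Fin 3) F)) = ⊤ := by
  set a : Fin 3 → F := oddVec 0 0 with ha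
  have hco := fun k (hk : k < 3) => co_oddVec (n := 3) (0 : F) 0 hk
  have h8 : (8 : F) ≠ 0 := fun e => h2 ((pow_eq_zero_iff three_ne_zero).1
    (by linear_combination e : (2 : F) ^ 3 = 0))
  obtain ⟨g, hg⟩ := exists_conj (n := 3) 4 ((-2 : F) • a) le_rfl (-2) (neg_ne_zero.2 h2) (by
    rw [co_smul, ha, hco _ (by norm_num)]; norm_num)
  have h3 : co a 3 = 0 := co_of_le _ le_rfl
  refine ⟨g, gen_odd_one le_rfl h2 _ hg ?_ ?_ ?_ ?_ ?_ ?_ (hgen _)⟩
  · rw [ha, hco _ (by norm_num)]; simp
  · rw [ha, hco _ (by norm_num)]; simp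
  · rw [ha, hco _ (by norm_num)]; simp
  · rw [ha, hco _ (by norm_num)]; simp
    exact fun e => h8 (by linear_combination 2 * e)
  · rw [h3, add_zero]; exact h8
  · rw [ha, psi_oddVec le_rfl]; simpa using h8

/-- Degree four in the remaining characteristics. -/
theorem gen_four (h2 : (2 : F) ≠ 0) {d : F} (hd : d ≠ 0) (h16 : d ^ 4 ≠ 16) (h16' : d ^ 4 ≠ -16)
    (hgen : ∀ x : F, Subring.closure ({x} : Set F) = ⊤) :
    ∃ g : Matrix.SpecialLinearGroup (Fin 4) F,
      Subgroup.closure ({uSL, g * uSL * g⁻¹} : Set (Matrix.SpecialLinearGroup (Fin 4) F)) = ⊤ := by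
  set α : F := d ^ 4 / 2 with hα
  set a : Fin 4 → F := oddVec 0 α with ha
  have hco := fun k (hk : k < 4) => co_oddVec (n := 4) (0 : F) α hk
  obtain ⟨g, hg⟩ := exists_conj (n := 4) 4 ((-2 : F) • a) (by norm_num) d hd (by
    rw [co_smul, ha, hco _ (by norm_num)]; simp [hα]; field_simp)
  refine ⟨g, gen_odd_one (by norm_num) h2 _ hg ?_ ?_ ?_ ?_ ?_ ?_ (hgen _)⟩
  · rw [ha, hco _ (by norm_num)]; simp
  · rw [ha, hco _ (by norm_num)]; simp
  · rw [ha, hco _ (by norm_num)]; simp
  · rw [ha, hco _ (by norm_num)]; simp [hα, hd, h2]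
  · rw [ha, hco _ (by norm_num)]; simp [hα]
    intro e
    field_simp at e
    exact h16' (by linear_combination e)
  · rw [ha, psi_oddVec (by norm_num), hα]
    intro e
    field_simp at e
    exact h16 (by linear_combination -e)

theorem gen_two_large (hn : 4 ≤ n) (h2 : (2 : F) = 0) (v : Matrix.SpecialLinearGroup (Fin n) F) {t : F}
    (ht : t ≠ 0) (hgen : Subring.closure ({t * t} : Set F) = ⊤)
    (hv : (v : Matrix (Fin n) (Fin n) F) = vMat 0 (t • E (n - 1))) :
    Subgroup.closure ({uSL, v} : Set (Matrix.SpecialLinearGroup (Fin n) F)) = ⊤ :=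
  closure_pair_eq_top v hv fun _ _ _ hu hz hu' hz' => specialLinear_le_two hn h2 hu hz hu' hz' ht hgen

/-- Over a prime field two conjugate regular unipotent elements generate. -/
theorem two_conj_prime [Fintype F] (hn : 3 ≤ n) (hp : (Fintype.card F).Prime) :
    ∃ g : Matrix.SpecialLinearGroup (Fin n) F,
      Subgroup.closure ({uSL, g * uSL * g⁻¹} : Set (Matrix.SpecialLinearGroup (Fin n) F)) = ⊤ := by
  have hgen : ∀ x : F, Subring.closure ({x} : Set F) = ⊤ := closure_eq_top_of_prime hp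
  by_cases h2 : (2 : F) = 0
  · rcases Nat.eq_or_lt_of_le hn with rfl | hn4
    · obtain ⟨g, hg⟩ := exists_conj_low (1 : F) 0 1 1 one_ne_zero one_ne_zero (by ring)
      exact ⟨g, closure_low_eq_top _ hg fun M u w hu hw hu' hw' =>
        three_two h2 one_ne_zero (hgen _) hu hw hu' hw'⟩
    · obtain ⟨g, hg⟩ := exists_conj (n := n) (0 : F) ((1 : F) • E (n - 1)) hn 1 one_ne_zero (by
        rw [co_smul, co_E, if_pos ⟨by omega, rfl⟩, show (-1 : F) = 1 by linear_combination -h2]
        simp)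
      exact ⟨g, gen_two_large hn4 h2 _ one_ne_zero (hgen _) hg⟩
  · rcases Nat.eq_or_lt_of_le hn with rfl | hn4
    · exact gen_three_prime h2 hgen
    rcases Nat.eq_or_lt_of_le (show 4 ≤ n from hn4) with rfl | hn5
    · by_cases h3 : (3 : F) = 0
      · exact gen_four_small h2 (α := 2) (c := 0) (by linear_combination h3) hgen (Or.inl ⟨h3, rfl⟩)
      by_cases h5 : (5 : F) = 0
      · exact gen_four_small h2 (α := 3) (c := -2) (by linear_combination h5) hgen (Or.inr ⟨h5, rfl⟩)
      by_cases h17 : (17 : F) = 0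
      · refine gen_four h2 h3 (fun e => h3 ?_) (fun e => ?_) hgen
        · linear_combination -e + 4 * h17
        · exact h5 (by linear_combination 6 * h17 - e)
      · refine gen_four h2 one_ne_zero (fun e => mul_ne_zero h3 h5 ?_) (fun e => h17 ?_) hgen
        · linear_combination -e
        · linear_combination e
    · exact gen_five hn5 h2 hgen

end CfsgLib.RegUnip
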