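import Cfsg.Agent.RegUnip.Finish
import Mathlib.FieldTheory.Finite.Basic

/-!
# Two conjugate regular unipotent elements of `SL₃`
-/

set_option autoImplicit false

namespace CfsgLib.RegUnip

open Matrix Cfsg Cfsg.Geo CfsgLib.Geo

variable {F : Type*} [Field F] {M : Subgroup (GL (Fin 3) F)}

/-- A lower unitriangular matrix. -/
def lowMat (r s c : F) : Matrix (Fin 3) (Fin 3) F := !![1, 0, 0; r, 1, 0; s, c, 1]

theorem uMat_three : (uMat : Matrix (Fin 3) (Fin 3) F) = !![1, 1, 0; 0, 1, 1; 0, 0, 1] := by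
  ext i j
  fin_cases i <;> fin_cases j <;> simp [uMat]

theorem vec_three (x : Fin 3 → F) : x = ![x 0, x 1, x 2] := by
  funext i; fin_cases i <;> rfl

theorem E_three_zero : (E 0 : Fin 3 → F) = ![1, 0, 0] := by
  funext i; fin_cases i <;> simp [E, vec]

theorem low_mulVec (r s c a b e : F) :
    lowMat r s c *ᵥ ![a, b, e] = ![a, r * a + b, s * a + c * b + e] := by
  funext i
  fin_cases i <;> simp [lowMat, Matrix.mulVec, dotProduct, Fin.sum_univ_three]

theorem u_mulVec_three (a b e : F) : (uMat : Matrix (Fin 3) (Fin 3) F) *ᵥ ![a, b, e] = ![a + b, b + e, e] := by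
  rw [uMat_three]
  funext i
  fin_cases i <;> simp [Matrix.mulVec, dotProduct, Fin.sum_univ_three]

/-- The lower matrix is a conjugate of the Jordan block in `SL₃`. -/
theorem exists_conj_low (r s c γ : F) (hr : r ≠ 0) (hc : c ≠ 0) (hγ : r ^ 2 * c = γ ^ 3) :
    ∃ g : Matrix.SpecialLinearGroup (Fin 3) F,
      ((g * uSL * g⁻¹ : Matrix.SpecialLinearGroup (Fin 3) F) : Matrix (Fin 3) (Fin 3) F) = lowMat r s c := by
  have hγ0 : γ ≠ 0 := fun h => by
    rw [h, zero_pow three_ne_zero] at hγ
    exact mul_ne_zero (pow_ne_zero 2 hr) hc hγ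
  let δ : F := -γ⁻¹
  have hdet : Matrix.det !![0, 0, δ; 0, δ * r, 0; δ * (r * c), δ * s, 0] = 1 := by
    simp [Matrix.det_fin_three, δ]
    field_simp
    linear_combination hγ
  let g : Matrix.SpecialLinearGroup (Fin 3) F := ⟨_, hdet⟩
  refine ⟨g, ?_⟩
  have hm : (g : Matrix (Fin 3) (Fin 3) F) * uMat = lowMat r s c * (g : Matrix (Fin 3) (Fin 3) F) := by
    rw [uMat_three]
    ext i j
    fin_cases i <;> fin_cases j <;>
      simp [g, lowMat, Matrix.mul_apply, Fin.sum_univ_three] <;> ring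
  rw [Matrix.SpecialLinearGroup.coe_mul, Matrix.SpecialLinearGroup.coe_mul, coe_uSL, hm, mul_assoc,
    ← Matrix.SpecialLinearGroup.coe_mul, mul_inv_cancel, Matrix.SpecialLinearGroup.coe_one, mul_one]

theorem dot_three (a b e a' b' e' : F) : ![a, b, e] ⬝ᵥ ![a', b', e'] = a * a' + b * b' + e * e' := by
  simp [dotProduct, Fin.sum_univ_three]

/-- The transvection subgroup with centre `e₂` and axis `e₀*`. -/
def lowD (M : Subgroup (GL (Fin 3) F)) : AddSubgroup F where
  carrier := {a | HasTv M (![0, 0, a]) (E 0)}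
  zero_mem' := by
    change HasTv M ![0, 0, (0 : F)] (E 0)
    rw [show (![0, 0, (0 : F)] : Fin 3 → F) = 0 by funext i; fin_cases i <;> rfl]
    exact hasTv_zero_left M _
  add_mem' {a b} ha hb := by
    change HasTv M ![0, 0, a + b] (E 0)
    convert! HasTv.add_center ha hb using 1
    funext i; fin_cases i <;> simp
  neg_mem' {a} ha := by
    change HasTv M ![0, 0, -a] (E 0)
    convert! HasTv.neg_center ha using 1
    funext i; fin_cases i <;> simp

theorem low_vM (r s c : F) {v : GL (Fin 3) F} (hv : v ∈ M)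
    (hv' : (v : Matrix (Fin 3) (Fin 3) F) = lowMat r s c) {a b e : F}
    (h : HasTv M ![a, b, e] (E 0)) : HasTv M ![a, r * a + b, s * a + c * b + e] (E 0) := by
  have h1 := h.conj hv
  have h0 : (E 0 : Fin 3 → F) ᵥ* lowMat r s c = E 0 := by
    rw [E_three_zero]
    funext i
    fin_cases i <;> simp [lowMat, Matrix.vecMul, dotProduct, Fin.sum_univ_three]
  have h2 : (E 0 : Fin 3 → F) ᵥ* ((v⁻¹ : GL (Fin 3) F) : Matrix (Fin 3) (Fin 3) F) = E 0 := by
    conv_lhs => rw [← h0, ← hv']
    rw [Matrix.vecMul_vecMul, ← Units.val_mul, mul_inv_cancel, Units.val_one, Matrix.vecMul_one]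
  rwa [h2, hv', low_mulVec] at h1

/-- The rule multiplying the transvection subgroup. -/
theorem low_rule (r s c : F) {u v : GL (Fin 3) F} (hu : u ∈ M) (hv : v ∈ M)
    (hu' : (u : Matrix (Fin 3) (Fin 3) F) = uMat)
    (hv' : (v : Matrix (Fin 3) (Fin 3) F) = lowMat r s c) {a b : F} (ha : a ∈ lowD M) (hb : b ∈ lowD M) :
    HasTv M ![0, a * b, a * b] (E 0) ∧ c * (a * b) ∈ lowD M := by
  have h3 : HasTv M ![0, b, b] ((E 0 : Fin 3 → F) ᵥ* ((u⁻¹ : GL (Fin 3) F) : Matrix (Fin 3) (Fin 3) F)) := by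
    have := (show HasTv M ![0, 0, b] (E 0) from hb).conj hu
    rwa [hu', u_mulVec_three, zero_add, zero_add] at this
  have h4 := h3.comm (show HasTv M ![0, 0, a] (E 0) from ha) (by rw [E_three_zero, dot_three]; simp)
  have hψ : ((u⁻¹ : GL (Fin 3) F) : Matrix (Fin 3) (Fin 3) F) *ᵥ ![0, 0, a] = ![a, -a, a] := by
    rw [show (![0, 0, a] : Fin 3 → F) = (u : Matrix (Fin 3) (Fin 3) F) *ᵥ ![a, -a, a] by
      rw [hu', u_mulVec_three]; funext i; fin_cases i <;> simp, inv_mulVec_mulVec]
  rw [← Matrix.dotProduct_mulVec, hψ, E_three_zero, dot_three, one_mul, zero_mul, zero_mul, add_zero,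
    add_zero, ← E_three_zero] at h4
  have h5 : HasTv M ![0, a * b, a * b] (E 0) := by
    rcases eq_or_ne a 0 with rfl | ha0
    · rw [show (![0, 0 * b, 0 * b] : Fin 3 → F) = 0 by funext i; fin_cases i <;> simp]
      exact hasTv_zero_left M _
    · convert! (hasTv_smul_iff a ha0).2 h4 using 1
      funext i; fin_cases i <;> simp
  refine ⟨h5, ?_⟩
  change HasTv M ![0, 0, c * (a * b)] (E 0)
  convert! (low_vM r s c hv hv' h5).sub_center h5 using 1
  funext i; fin_cases i <;> simp

theorem low_finish (r s c : F) {u v : GL (Fin 3) F} (hu : u ∈ M) (hv : v ∈ M)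
    (hu' : (u : Matrix (Fin 3) (Fin 3) F) = uMat)
    (hv' : (v : Matrix (Fin 3) (Fin 3) F) = lowMat r s c) (hall : ∀ a, a ∈ lowD M) :
    specialLinear (Fin 3) F ≤ M := by
  refine specialLinear_le_of_axFull ?_ hu hu'
  intro x hx
  rw [E_dotProduct, show co x 0 = x 0 from rfl] at hx
  have h1 := (low_rule r s c hu hv hu' hv' (hall (x 1)) (hall 1)).1
  have h2 := h1.add_center (show HasTv M ![0, 0, x 2 - x 1] (E 0) from hall _)
  convert! h2 using 1
  funext i; fin_cases i <;> simp [hx]

theorem low_sq (h2 : (2 : F) = 0) (r s c : F) {v : GL (Fin 3) F} (hv : v ∈ M)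
    (hv' : (v : Matrix (Fin 3) (Fin 3) F) = lowMat r s c) : r * c ∈ lowD M := by
  refine ⟨by rw [E_three_zero, dot_three]; simp, ?_⟩
  have : tvec ![0, 0, r * c] (E 0) (by rw [E_three_zero, dot_three]; simp) = v * v := by
    refine gl_ext_mulVec fun x => ?_
    rw [mul_mulVec, tvec_mulVec, hv', vec_three x, low_mulVec, low_mulVec, E_three_zero, dot_three]
    funext i; fin_cases i
    · simp
    · simp; linear_combination (-r * x 0) * h2
    · simp; linear_combination (-(s * x 0 + c * x 1)) * h2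
  rw [this]
  exact mul_mem hv hv

/-- Characteristic two, parameters generating the field. -/
theorem three_two (h2 : (2 : F) = 0) {t : F} (ht : t ≠ 0)
    (hgen : Subring.closure ({t ^ 3} : Set F) = ⊤) {u v : GL (Fin 3) F} (hu : u ∈ M) (hv : v ∈ M)
    (hu' : (u : Matrix (Fin 3) (Fin 3) F) = uMat)
    (hv' : (v : Matrix (Fin 3) (Fin 3) F) = lowMat t 0 t) : specialLinear (Fin 3) F ≤ M := by
  have hD := low_sq h2 t 0 t hv hv'
  refine low_finish t 0 t hu hv hu' hv'
    (forall_mem_of_generator hgen hD (mul_ne_zero ht ht) fun x hx => ?_)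
  have := (low_rule t 0 t hu hv hu' hv' hD hx).2
  convert! this using 1
  ring

/-- The field of four elements. -/
theorem three_four [Fintype F] (h4 : Fintype.card F = 4) (h2 : (2 : F) = 0) {ω : F}
    (hω : ω ^ 2 + ω + 1 = 0) {u v : GL (Fin 3) F} (hu : u ∈ M) (hv : v ∈ M)
    (hu' : (u : Matrix (Fin 3) (Fin 3) F) = uMat)
    (hv' : (v : Matrix (Fin 3) (Fin 3) F) = lowMat 1 ω 1) : specialLinear (Fin 3) F ≤ M := by
  have h1 : (1 : F) ∈ lowD M := by simpa using low_sq h2 1 ω 1 hv hv'
  have hw : ω + 1 ∈ lowD M := by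
    refine ⟨by rw [E_three_zero, dot_three]; simp, ?_⟩
    have : tvec ![0, 0, ω + 1] (E 0) (by rw [E_three_zero, dot_three]; simp) =
        (u * u) * (v * v) * u * (v * v) * (u * u) * v := by
      refine gl_ext_mulVec fun x => ?_
      have huu : ∀ a b e : F, ((u * u : GL (Fin 3) F) : Matrix (Fin 3) (Fin 3) F) *ᵥ ![a, b, e] =
          ![a + e, b, e] := fun a b e => by
        rw [mul_mulVec, hu', u_mulVec_three, u_mulVec_three]
        funext i; fin_cases i
        · simp; linear_combination b * h2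
        · simp; linear_combination e * h2
        · simp
      have hvv : ∀ a b e : F, ((v * v : GL (Fin 3) F) : Matrix (Fin 3) (Fin 3) F) *ᵥ ![a, b, e] =
          ![a, b, a + e] := fun a b e => by
        rw [mul_mulVec, hv', low_mulVec, low_mulVec]
        funext i; fin_cases i
        · simp
        · simp; linear_combination a * h2
        · simp; linear_combination (ω * a + b) * h2
      rw [mul_mulVec, mul_mulVec, mul_mulVec, mul_mulVec, mul_mulVec, tvec_mulVec, hv', vec_three x,
        low_mulVec, huu, hvv, hu', u_mulVec_three, hvv, huu, E_three_zero, dot_three]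
      funext i; fin_cases i
      · simp; linear_combination -(2 * x 0 + 3 * x 1 + 2 * x 2 + 2 * ω * x 0) * h2
      · simp; linear_combination -(x 0 + x 1 + x 2 + ω * x 0) * h2
      · simp; linear_combination -(x 0 + 2 * x 1 + x 2 + ω * x 0) * h2
    rw [this]
    exact mul_mem (mul_mem (mul_mem (mul_mem (mul_mem (mul_mem hu hu) (mul_mem hv hv)) hu)
      (mul_mem hv hv)) (mul_mem hu hu)) hv
  refine low_finish 1 ω 1 hu hv hu' hv' fun a => ?_
  by_contra ha
  classical
  have hω0 : ω ≠ 0 := fun h => by simp [h] at hω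
  have hω1 : ω + 1 ≠ 0 := fun h => by
    have : ω = -1 := by linear_combination h
    simp [this] at hω
  have hsub : ({0, 1, ω + 1, ω} : Finset F) ⊆ (Finset.univ.erase a) := by
    intro y hy
    simp only [Finset.mem_insert, Finset.mem_singleton] at hy
    refine Finset.mem_erase.2 ⟨fun h => ha (h ▸ ?_), Finset.mem_univ _⟩
    rcases hy with rfl | rfl | rfl | rfl
    · exact zero_mem _
    · exact h1
    · exact hw
    · have := sub_mem hw h1
      rwa [add_sub_cancel_right] at this
  have hcard : ({0, 1, ω + 1, ω} : Finset F).card = 4 := by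
    rw [Finset.card_insert_of_notMem, Finset.card_insert_of_notMem, Finset.card_insert_of_notMem,
      Finset.card_singleton] <;> simp [hω0, hω0.symm, hω1, hω1.symm]
    exact fun h => hω1 (by rw [← h]; linear_combination h2)
  have := Finset.card_le_card hsub
  rw [hcard, Finset.card_erase_of_mem (Finset.mem_univ a), Finset.card_univ, h4] at this
  omega

/-- Odd characteristic: the parameters of the design with a repeated eigenvalue `l`. -/
theorem three_odd [Fintype F] (l r c : F) (hl : l ≠ 0) (hl3 : l ^ 3 ≠ 1) (hr : r ≠ 0) (hc : c ≠ 0)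
    (hsum : (r + c) * l ^ 2 = (l - 1) ^ 2 * (2 * l + 1)) (hprod : r * c * l = (l - 1) ^ 3)
    (hgen : Subring.closure ({(l⁻¹) ^ 3} : Set F) = ⊤)
    {u v : GL (Fin 3) F} (hu : u ∈ M) (hv : v ∈ M)
    (hu' : (u : Matrix (Fin 3) (Fin 3) F) = uMat)
    (hv' : (v : Matrix (Fin 3) (Fin 3) F) = lowMat r
      (((l - 1) - c) * ((l - 1) - r) - r + (((l - 1) ^ 2 - l * c) + (l - 1) * ((l - 1) - r))) c) :
    specialLinear (Fin 3) F ≤ M := by
  set d : F := l - 1 with hd
  set φ0 : F := d ^ 2 - l * c with hφ0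
  set a1 : F := d - r with ha1
  set a2 : F := -φ0 - d * a1 with ha2
  have hs : (d - c) * a1 - r + (φ0 + d * a1) = (d - c) * a1 - r - a2 := by rw [ha2]; ring
  rw [hs] at hv'
  set s : F := (d - c) * a1 - r - a2 with hsdef
  have hd0 : d ≠ 0 := sub_ne_zero.2 fun h => hl3 (by rw [h, one_pow])
  have hsum' : d * (l + 1) * a1 - r + l * φ0 = 0 := by
    rw [ha1, hφ0, hd]; rw [hd] at hsum; linear_combination -hsum
  set φ : Fin 3 → F := ![φ0, d, 1] with hφ
  set a : Fin 3 → F := ![1, a1, a2] with ha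
  set y : Fin 3 → F := ![0, 1, -d] with hy
  set e : Fin 3 → F := ![0, 1, 2 * d - r - c] with he
  have huv : ∀ p q o : F, ((u * v : GL (Fin 3) F) : Matrix (Fin 3) (Fin 3) F) *ᵥ ![p, q, o] =
      ![p + (r * p + q), r * p + q + (s * p + c * q + o), s * p + c * q + o] := fun p q o => by
    rw [mul_mulVec, hu', hv', low_mulVec, u_mulVec_three]
  set W : Matrix (Fin 3) (Fin 3) F := ((u * v : GL (Fin 3) F) : Matrix (Fin 3) (Fin 3) F) with hW
  have hwa : W *ᵥ a = l • a := by
    rw [ha, huv]
    funext i; fin_cases i <;> simp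
    · rw [ha1, hd]; ring
    · rw [hsdef, ha1, hd]; ring
    · rw [hsdef]
      linear_combination (norm := (rw [ha2, ha1, hd]; ring)) hsum'
  have hwy : W *ᵥ y = (l⁻¹) ^ 2 • y + a := by
    have hmu : r + c = 2 * d - 1 + (l⁻¹) ^ 2 := by
      field_simp
      rw [hd]; linear_combination hsum
    rw [hy, ha, huv]
    funext i; fin_cases i <;> simp
    · linear_combination (norm := (rw [ha1, hd]; ring)) hmu
    · linear_combination (norm := (rw [ha2, hφ0, ha1, hd]; ring)) (-d) * hmu
  have hwe : W *ᵥ e = l • e + a := by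
    rw [he, ha, huv]
    funext i; fin_cases i <;> simp
    · rw [ha1, hd]; ring
    · rw [ha2, hφ0, ha1, hd]; ring
  have hφw : φ ᵥ* W = l • φ := by
    refine covector_ext fun x => ?_
    rw [← Matrix.dotProduct_mulVec, vec_three x, huv, smul_dotProduct, hφ, dot_three, dot_three,
      smul_eq_mul]
    linear_combination (norm := (rw [hsdef, ha2, hφ0, ha1, hd]; ring)) (x 0) * hsum'
  have hφa : φ ⬝ᵥ a = 0 := by rw [hφ, ha, dot_three, ha2]; ring
  have hφy : φ ⬝ᵥ y = 0 := by rw [hφ, hy, dot_three]; ring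
  have hφe : φ ⬝ᵥ e ≠ 0 := by
    rw [hφ, he, dot_three]
    intro h
    have h' : d * (l ^ 2 + l + 1) = 0 := by
      rw [hd] at h ⊢
      linear_combination l ^ 2 * h + hsum
    rcases mul_eq_zero.1 h' with h'' | h''
    · exact hd0 h''
    · exact hl3 (by linear_combination (l - 1) * h'')
  -- the transvection
  set k : ℕ := Fintype.card F - 1 with hk
  have hq : 1 < Fintype.card F := Fintype.one_lt_card
  have hlk : l ^ k = 1 := FiniteField.pow_card_sub_one_eq_one l hl
  have hpow : ∀ j : ℕ, ((((u * v) ^ j : GL (Fin 3) F) : Matrix (Fin 3) (Fin 3) F)) *ᵥ a = l ^ j • a ∧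
      ((((u * v) ^ j : GL (Fin 3) F) : Matrix (Fin 3) (Fin 3) F)) *ᵥ e =
        l ^ j • e + ((j : F) * l ^ j / l) • a ∧
      ((((u * v) ^ j : GL (Fin 3) F) : Matrix (Fin 3) (Fin 3) F)) *ᵥ y =
        ((l⁻¹) ^ 2) ^ j • y + ((l ^ j - ((l⁻¹) ^ 2) ^ j) / (l - (l⁻¹) ^ 2)) • a := by
    have hne : l - (l⁻¹) ^ 2 ≠ 0 := by
      intro h
      apply hl3
      field_simp at h
      linear_combination h
    intro j
    induction j with
    | zero => simp
    | succ j ih =>
      obtain ⟨i1, i2, i3⟩ := ih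
      refine ⟨?_, ?_, ?_⟩
      · rw [pow_succ', mul_mulVec, i1, Matrix.mulVec_smul, ← hW, hwa, smul_smul, pow_succ]
      · rw [pow_succ', mul_mulVec, i2, Matrix.mulVec_add, Matrix.mulVec_smul, Matrix.mulVec_smul, ← hW,
          hwa, hwe, smul_add, smul_smul, smul_smul, add_assoc, ← add_smul, ← pow_succ]
        congr 2
        push_cast
        field_simp
        ring
      · rw [pow_succ', mul_mulVec, i3, Matrix.mulVec_add, Matrix.mulVec_smul, Matrix.mulVec_smul, ← hW,
          hwa, hwy, smul_add, smul_smul, smul_smul, add_assoc, ← add_smul, ← pow_succ]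
        congr 2
        generalize (l⁻¹) ^ 2 = m at hne ⊢
        field_simp
        ring
  set κ : F := (k : F) / l / (φ ⬝ᵥ e) with hκ
  have hκ0 : κ ≠ 0 := by
    have : (k : F) = -1 := by
      rw [hk, Nat.cast_sub hq.le, Nat.cast_one, FiniteField.cast_card_eq_zero, zero_sub]
    rw [hκ, this]
    exact div_ne_zero (div_ne_zero (neg_ne_zero.2 one_ne_zero) hl) hφe
  have hτ : HasTv M (κ • a) φ := by
    refine ⟨by rw [dotProduct_smul, hφa, smul_zero], ?_⟩
    have : tvec (κ • a) φ (by rw [dotProduct_smul, hφa, smul_zero]) = (u * v) ^ k := by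
      refine gl_ext_mulVec fun x => ?_
      set γ := (φ ⬝ᵥ x) / (φ ⬝ᵥ e) with hγ
      set β := x 1 - x 0 * a1 - γ with hβ
      have hx : x = x 0 • a + β • y + γ • e := by
        have hγ' : φ0 * x 0 + d * x 1 + x 2 = γ * (d + (2 * d - r - c)) := by
          have h1 : φ ⬝ᵥ x = φ0 * x 0 + d * x 1 + x 2 := by
            rw [hφ]; simp [dotProduct, Fin.sum_univ_three]
          have h2 : φ ⬝ᵥ e = d + (2 * d - r - c) := by rw [hφ, he, dot_three]; ring
          rw [← h1, ← h2, hγ, div_mul_cancel₀ _ hφe]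
        funext i; fin_cases i <;> simp [ha, hy, he]
        · rw [hβ]; ring
        · linear_combination (norm := (rw [hβ, ha2]; ring)) hγ'
      obtain ⟨i1, i2, i3⟩ := hpow k
      rw [tvec_mulVec]
      conv_rhs => rw [hx, Matrix.mulVec_add, Matrix.mulVec_add, Matrix.mulVec_smul, Matrix.mulVec_smul,
        Matrix.mulVec_smul, i1, i2, i3]
      rw [← pow_mul, mul_comm 2 k, pow_mul, inv_pow, hlk]
      have hγκ : (φ ⬝ᵥ x) * κ = γ * ((k : F) / l) := by rw [hκ, hγ]; field_simp
      conv_lhs => rw [smul_smul, hγκ]; enter [1]; rw [hx]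
      simp only [inv_one, one_pow, sub_self, zero_div, mul_one, one_smul, zero_smul, add_zero,
        smul_add, smul_smul]
      abel
    rw [this]
    exact pow_mem (mul_mem hu hv) k
  -- orthogonality
  have hua : (u : Matrix (Fin 3) (Fin 3) F) *ᵥ a = ![1 + a1, a1 + a2, a2] := by
    rw [hu', ha, u_mulVec_three]
  set ua := (u : Matrix (Fin 3) (Fin 3) F) *ᵥ a with huadef
  have horth : φ ⬝ᵥ ua = 0 := by
    rw [hua, hφ, dot_three]
    linear_combination (norm := (rw [ha2, hφ0, ha1, hd]; ring)) hprod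
  set ui : Matrix (Fin 3) (Fin 3) F := ((u⁻¹ : GL (Fin 3) F) : Matrix (Fin 3) (Fin 3) F)
  have huia : ui *ᵥ a = ![1 - a1 + a2, a1 - a2, a2] := by
    have : a = (u : Matrix (Fin 3) (Fin 3) F) *ᵥ ![1 - a1 + a2, a1 - a2, a2] := by
      rw [hu', u_mulVec_three, ha]
      congr <;> ring
    rw [this]
    exact inv_mulVec_mulVec u _
  have hφ00 : φ0 ≠ 0 := fun h => by
    have h1 : l * c = d ^ 2 := by rw [hφ0] at h; linear_combination -h
    have h2 : d ^ 2 * r = d ^ 2 * d := by
      rw [hd] at h1 ⊢; linear_combination hprod - r * h1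
    have h3 := mul_left_cancel₀ (pow_ne_zero 2 hd0) h2
    refine hd0 ?_
    rw [hd] at h1 h3 ⊢
    exfalso
    exact one_ne_zero (α := F) (by
      have : (l - 1) * 1 = 0 := by linear_combination hsum - l ^ 2 * h3 - l * h1
      exact ((mul_eq_zero.1 this).resolve_left hd0))
  have ha20 : a2 ≠ 0 := fun h => by
    have h1 : l * c + d * r = 2 * d ^ 2 := by rw [ha2, hφ0, ha1] at h; linear_combination h
    have h2 : r * l = d ^ 2 := by rw [hd] at h1 ⊢; linear_combination hsum - l * h1
    have h3 : d ^ 2 * c = d ^ 3 := by rw [hd] at h2 ⊢; linear_combination hprod - c * h2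
    have h4 : c = d := mul_left_cancel₀ (pow_ne_zero 2 hd0) (by rw [h3]; ring)
    have h5 : l + r = 2 * d := mul_left_cancel₀ hd0 (by rw [h4] at h1; linear_combination h1)
    refine one_ne_zero (α := F) ?_
    linear_combination (norm := (rw [hd]; ring)) l * h5 - h2
  set t := φ ⬝ᵥ (ui *ᵥ a) with htdef
  have ht : t = φ0 * a2 := by
    rw [htdef, huia, hφ, dot_three]
    linear_combination (norm := (rw [ha2, hφ0, ha1, hd]; ring)) (-1 : F) * hprod
  have ht0 : t ≠ 0 := ht ▸ mul_ne_zero hφ00 ha20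
  have hA1 : HasTv M ((κ * κ * t) • ua) φ := by
    have h3 := (hτ.conj hu).comm hτ (by rw [Matrix.mulVec_smul, dotProduct_smul, horth, smul_zero])
    rw [← Matrix.dotProduct_mulVec, Matrix.mulVec_smul, Matrix.mulVec_smul, dotProduct_smul,
      smul_eq_mul, ← hasTv_smul_iff _ (mul_ne_zero hκ0 ht0), smul_smul] at h3
    convert! h3 using 2
    ring
  -- the action of the product on the axis
  have hφwi : φ ᵥ* (((u * v)⁻¹ : GL (Fin 3) F) : Matrix (Fin 3) (Fin 3) F) = l⁻¹ • φ := by
    have h := congrArg (fun w => w ᵥ* (((u * v)⁻¹ : GL (Fin 3) F) : Matrix (Fin 3) (Fin 3) F)) hφw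
    simp only [hW, Matrix.vecMul_vecMul, ← Units.val_mul, mul_inv_cancel, Units.val_one,
      Matrix.vecMul_one, Matrix.smul_vecMul] at h
    conv_rhs => rw [h]
    rw [smul_smul, inv_mul_cancel₀ hl, one_smul]
  have hg : ∀ x, HasTv M x φ → HasTv M (l⁻¹ • (W *ᵥ x)) φ := fun x hx => by
    have := hx.conj (mul_mem hu hv)
    rw [hφwi] at this
    exact (hasTv_smul_iff _ (inv_ne_zero hl)).2 this
  set ρ : F := (l⁻¹) ^ 3
  have hρ1 : ρ - 1 ≠ 0 := sub_ne_zero.2 fun h => hl3 (by
    rw [show ρ = (l ^ 3)⁻¹ from inv_pow l 3, inv_eq_one] at h; exact h)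
  set ε : F := (l * (ρ - 1))⁻¹ with hε
  set y' : Fin 3 → F := y + ε • a with hy'
  have hgy : l⁻¹ • (W *ᵥ y') = ρ • y' := by
    rw [hy', Matrix.mulVec_add, Matrix.mulVec_smul, hwy, hwa]
    funext i
    simp only [Pi.smul_apply, Pi.add_apply, smul_eq_mul, hε]
    field_simp
    simp only [ρ]
    field_simp
    ring
  set β : F := a1 + a2 - (1 + a1) * a1 with hβ
  have huay : ua = (1 + a1) • a + β • y := by
    rw [hua, ha, hy]
    funext i; fin_cases i <;> simp [hβ]
    linear_combination (norm := (rw [ha2, hφ0, ha1, hd]; ring)) hprod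
  have hβ0 : β ≠ 0 := fun h => by
    rw [h, zero_smul, add_zero, hua, ha] at huay
    have e0 := congrFun huay 2
    simp at e0
    rcases mul_eq_zero.1 (show a1 * a2 = 0 by linear_combination -e0) with h0 | h0
    · rw [hβ, h0] at h; exact ha20 (by linear_combination h)
    · exact ha20 h0
  have hdiff : l⁻¹ • (W *ᵥ ua) - ua = (β * (ρ - 1)) • y' := by
    rw [huay, Matrix.mulVec_add, Matrix.mulVec_smul, Matrix.mulVec_smul, hwa, hwy, hy', hε]
    funext i
    simp only [Pi.smul_apply, Pi.add_apply, Pi.sub_apply, smul_eq_mul]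
    field_simp
    simp only [ρ]
    field_simp
    ring
  let S : AddSubgroup F :=
    { carrier := {z | HasTv M (z • y') φ}
      zero_mem' := by
        change HasTv M ((0 : F) • y') φ
        rw [zero_smul]; exact hasTv_zero_left M _
      add_mem' := fun {p q} hp hq' => by
        change HasTv M ((p + q) • y') φ
        rw [add_smul]; exact hp.add_center hq'
      neg_mem' := fun {p} hp => by
        change HasTv M ((-p) • y') φ
        rw [neg_smul]; exact hp.neg_center }
  have hy'full : y' ∈ lineCentres M φ := fun z =>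
    forall_mem_of_generator (S := S) (a₀ := κ * κ * t * (β * (ρ - 1))) hgen
      (by
        change HasTv M _ φ
        have := (hg _ hA1).sub_center hA1
        rw [Matrix.mulVec_smul, smul_comm, ← smul_sub, hdiff, smul_smul] at this
        exact this)
      (mul_ne_zero (mul_ne_zero (mul_ne_zero hκ0 hκ0) ht0) (mul_ne_zero hβ0 hρ1))
      (fun p hp => by
        change HasTv M _ φ
        have := hg _ hp
        rw [Matrix.mulVec_smul, smul_comm, hgy, smul_smul] at this
        convert! this using 2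
        ring) z
  have hφy' : φ ⬝ᵥ y' = 0 := by rw [hy', dotProduct_add, dotProduct_smul, hφa, hφy]; simp
  -- the translate is full
  have hua_full : ua ∈ lineCentres M φ := by
    set η : F := φ ᵥ* ui ⬝ᵥ y'
    by_cases hη : η = 0
    · have e1 : φ ᵥ* ui ⬝ᵥ a = t := (Matrix.dotProduct_mulVec _ _ _).symm
      have e2 : φ ᵥ* ui ⬝ᵥ ua = 0 := by
        rw [← Matrix.dotProduct_mulVec]
        change φ ⬝ᵥ (ui *ᵥ ((u : Matrix (Fin 3) (Fin 3) F) *ᵥ a)) = 0
        rw [show ui *ᵥ ((u : Matrix (Fin 3) (Fin 3) F) *ᵥ a) = a from inv_mulVec_mulVec u a, hφa]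
      have e3 : ua = ((1 + a1) - β * ε) • a + β • y' := by
        rw [huay, hy']; module
      have e4 : ((1 + a1) - β * ε) * t = 0 := by
        have := congrArg (fun w => φ ᵥ* ui ⬝ᵥ w) e3
        simp only [dotProduct_add, dotProduct_smul, e1, e2, smul_eq_mul] at this
        rw [show φ ᵥ* ui ⬝ᵥ y' = 0 from hη, mul_zero, add_zero] at this
        exact this.symm
      rw [e3, (mul_eq_zero.1 e4).resolve_right ht0, zero_smul, zero_add]
      exact Submodule.smul_mem _ _ hy'full
    · intro z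
      have h3 := (hτ.conj hu).comm (hy'full (z / (κ * η)))
        (by rw [Matrix.mulVec_smul, dotProduct_smul, horth, smul_zero])
      rw [Matrix.mulVec_smul, dotProduct_smul, smul_eq_mul] at h3
      rcases eq_or_ne z 0 with rfl | hz
      · rw [zero_smul]; exact hasTv_zero_left M _
      · rw [← hasTv_smul_iff _ (mul_ne_zero (div_ne_zero hz (mul_ne_zero hκ0 hη)) hη), smul_smul] at h3
        convert! h3 using 2
        field_simp
  -- two independent axes at the centre
  have hax1 : φ ᵥ* (u : Matrix (Fin 3) (Fin 3) F) ∈ lineAxes M a := by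
    have h := lineAxes_conj (mem_lineAxes_iff.2 hua_full) (inv_mem hu)
    rw [inv_inv, show ((u⁻¹ : GL (Fin 3) F) : Matrix (Fin 3) (Fin 3) F) *ᵥ ua = a from
      inv_mulVec_mulVec u a] at h
    exact h
  have hax0 : φ ∈ lineAxes M a := by
    have h5 : (φ ᵥ* (u : Matrix (Fin 3) (Fin 3) F) ⬝ᵥ ua) • φ ∈ lineAxes M a := fun z => by
      have := (hax1 z).comm (hua_full 1) (by rw [dotProduct_smul, hφa, smul_zero])
      rwa [one_smul] at this
    have hσ : φ ᵥ* (u : Matrix (Fin 3) (Fin 3) F) ⬝ᵥ ua = t := by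
      rw [← Matrix.dotProduct_mulVec, hua, hu', u_mulVec_three, hφ, dot_three, ht]
      linear_combination (norm := (rw [ha2, hφ0, ha1, hd]; ring)) (2 : F) * hprod
    have := Submodule.smul_mem _ t⁻¹ (hσ ▸ h5)
    rwa [smul_smul, inv_mul_cancel₀ ht0, one_smul] at this
  have hfull : a ∈ fullSubmodule M := by
    intro ψ hψ
    rw [vec_three ψ, ha, dot_three] at hψ
    set P : F := (ψ 2 * (φ0 + d) - ψ 1 * (d + 1)) / (φ0 - d ^ 2)
    set Q : F := (ψ 1 - ψ 2 * d) / (φ0 - d ^ 2)
    have hden : φ0 - d ^ 2 ≠ 0 := by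
      rw [hφ0, sub_sub_cancel_left, neg_ne_zero]; exact mul_ne_zero hl hc
    have h1 : P * d + Q * (φ0 + d) = ψ 1 := by
      simp only [P, Q]; field_simp; ring
    have h2 : P + Q * (d + 1) = ψ 2 := by
      simp only [P, Q]; field_simp; ring
    have hmem := Submodule.add_mem _ (Submodule.smul_mem _ P hax0) (Submodule.smul_mem _ Q hax1)
    have hv2 : φ ᵥ* (u : Matrix (Fin 3) (Fin 3) F) = ![φ0, φ0 + d, d + 1] := by
      refine covector_ext fun x => ?_
      rw [← Matrix.dotProduct_mulVec, vec_three x, hu', u_mulVec_three, hφ, dot_three, dot_three]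
      ring
    have := hmem 1
    rw [one_smul] at this
    convert! this using 1
    rw [hv2, hφ]
    funext i; fin_cases i <;> simp
    · have hX : φ0 * a1 - d * φ0 - d ^ 2 * a1 = 0 := by
        linear_combination (norm := (rw [hφ0, ha1, hd]; ring)) hprod
      linear_combination (norm := (rw [ha2]; ring)) hψ + a1 * h1 + a2 * h2 - Q * hX
    · linear_combination -h1
    · linear_combination -h2
  refine specialLinear_le_of_fullSubmodule (mem_of_forall_E _ fun j hj => ?_)
  have m1 := fullSubmodule_invariant hfull hu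
  have m2 := fullSubmodule_invariant m1 hu
  have d1 : (![a1, a2, 0] : Fin 3 → F) ∈ fullSubmodule M := by
    convert! Submodule.sub_mem _ m1 hfull using 1
    change _ = ua - a
    rw [hua, ha]
    funext i; fin_cases i <;> simp
  have d2 : (![a2, 0, 0] : Fin 3 → F) ∈ fullSubmodule M := by
    convert! Submodule.sub_mem _ (Submodule.sub_mem _ m2 m1) d1 using 1
    change _ = (u : Matrix (Fin 3) (Fin 3) F) *ᵥ ua - ua - _
    rw [hua, hu', u_mulVec_three]
    funext i; fin_cases i <;> simp
  have e0 : (![1, 0, 0] : Fin 3 → F) ∈ fullSubmodule M := by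
    convert! Submodule.smul_mem _ a2⁻¹ d2 using 1
    funext i; fin_cases i <;> simp [ha20]
  have e1 : (![0, 1, 0] : Fin 3 → F) ∈ fullSubmodule M := by
    convert! Submodule.smul_mem _ a2⁻¹ (Submodule.sub_mem _ d1 (Submodule.smul_mem _ a1 e0)) using 1
    funext i; fin_cases i <;> simp [ha20]
  have e2 : (![0, 0, 1] : Fin 3 → F) ∈ fullSubmodule M := by
    convert! Submodule.smul_mem _ a2⁻¹ (Submodule.sub_mem _ (Submodule.sub_mem _ hfull e0)
      (Submodule.smul_mem _ a1 e1)) using 1
    rw [ha]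
    funext i; fin_cases i <;> simp [ha20]
  rcases j with _ | _ | _ | j
  · rw [E_three_zero]; exact e0
  · convert! e1 using 1; funext i; fin_cases i <;> simp [E, vec]
  · convert! e2 using 1; funext i; fin_cases i <;> simp [E, vec]
  · omega

end CfsgLib.RegUnip
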