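import Cfsg.Agent.RegUnip.Prime
import Mathlib.Algebra.Field.ZMod

/-!
# Three conjugate regular unipotent elements generate
-/

set_option autoImplicit false

namespace CfsgLib.RegUnip

open Matrix Cfsg Cfsg.Geo CfsgLib.Geo

variable {n : ℕ} {F : Type*} [Field F] {M : Subgroup (GL (Fin n) F)}

/-- The elementary transvection parameters in `M`. -/
def rootSet (M : Subgroup (GL (Fin n) F)) (i j : Fin n) : AddSubgroup F where
  carrier := {c | HasTv M (c • (Pi.single i 1 : Fin n → F)) (Pi.single j 1)}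
  zero_mem' := by
    change HasTv M ((0 : F) • (Pi.single i 1 : Fin n → F)) (Pi.single j 1)
    rw [zero_smul]; exact hasTv_zero_left M _
  add_mem' {a b} ha hb := by
    change HasTv M ((a + b) • (Pi.single i 1 : Fin n → F)) (Pi.single j 1)
    rw [add_smul]; exact HasTv.add_center ha hb
  neg_mem' {a} ha := by
    change HasTv M ((-a) • (Pi.single i 1 : Fin n → F)) (Pi.single j 1)
    rw [neg_smul]; exact HasTv.neg_center ha

theorem rootSet_mul {i j k : Fin n} (hik : i ≠ k) {a b : F} (ha : a ∈ rootSet M i j)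
    (hb : b ∈ rootSet M j k) : a * b ∈ rootSet M i k := by
  have h := HasTv.comm (M := M) ha hb (by simp [hik.symm])
  rcases eq_or_ne b 0 with rfl | hb0
  · rw [mul_zero]; exact zero_mem _
  rw [dotProduct_smul, smul_eq_mul] at h
  simp only [dotProduct_single_one, Pi.single_eq_same, mul_one] at h
  rw [← hasTv_smul_iff b hb0, smul_smul, mul_comm] at h
  exact h

/-- Elementary transvections over the prime field and one further parameter give everything. -/
theorem specialLinear_le_of_roots (hn : 3 ≤ n) {t : F} (ht : Subring.closure ({t} : Set F) = ⊤)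
    (h1 : ∀ i j : Fin n, i ≠ j → (1 : F) ∈ rootSet M i j) {i₀ j₀ : Fin n} (h0 : i₀ ≠ j₀)
    (ht0 : t ∈ rootSet M i₀ j₀) : specialLinear (Fin n) F ≤ M := by
  have hrow : ∀ {a : F} {i i' j : Fin n}, i' ≠ i → i' ≠ j → a ∈ rootSet M i j → a ∈ rootSet M i' j :=
    fun h h' ha => by simpa using rootSet_mul h' (h1 _ _ h) ha
  have hcol : ∀ {a : F} {i j j' : Fin n}, j ≠ j' → i ≠ j' → a ∈ rootSet M i j → a ∈ rootSet M i j' :=
    fun h h' ha => by simpa using rootSet_mul h' ha (h1 _ _ h)
  have hthird : ∀ i j : Fin n, ∃ k, k ≠ i ∧ k ≠ j := fun i j => by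
    classical
    by_contra hc
    push Not at hc
    have : (Finset.univ : Finset (Fin n)) ⊆ {i, j} := fun k _ => by
      rcases eq_or_ne k i with rfl | hk
      · simp
      · simp [hc k hk]
    have := (Finset.card_le_card this).trans Finset.card_le_two
    simp at this
    omega
  have hmove : ∀ i j : Fin n, i ≠ j → t ∈ rootSet M i j := by
    have hA : ∀ j, j ≠ i₀ → t ∈ rootSet M i₀ j := fun j hj => by
      rcases eq_or_ne j₀ j with rfl | h
      · exact ht0
      · exact hcol h hj.symm ht0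
    intro i j hij
    rcases eq_or_ne i i₀ with rfl | hi
    · exact hA j hij.symm
    rcases eq_or_ne j i₀ with rfl | hj
    · obtain ⟨k, hk1, hk2⟩ := hthird i j
      exact hcol hk2 hij (hrow hi hk1.symm (hA k hk2))
    · exact hrow hi hij (hA j hj)
  refine specialLinear_le_of_elementary fun i j hij c => ?_
  refine forall_mem_of_generator (S := rootSet M i j) ht (h1 i j hij) one_ne_zero (fun x hx => ?_) c
  obtain ⟨k, hk1, hk2⟩ := hthird i j
  exact rootSet_mul hij (hmove i k hk1.symm) (hrow hk1 hk2 hx)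

theorem uSL_map {K : Type*} [Field K] (f : K →+* F) :
    Matrix.SpecialLinearGroup.map f (uSL : Matrix.SpecialLinearGroup (Fin n) K) = uSL := by
  refine Subtype.ext (Matrix.ext fun i j => ?_)
  change f (uMat i j) = uMat i j
  simp only [uMat, Matrix.of_apply]
  split_ifs <;> simp

/-- Three conjugates generate. -/
theorem three_conj [Fintype F] (hn : 3 ≤ n) :
    ∃ g h : Matrix.SpecialLinearGroup (Fin n) F,
      Subgroup.closure ({uSL, g * uSL * g⁻¹, h * uSL * h⁻¹} : Set (Matrix.SpecialLinearGroup (Fin n) F)) = ⊤ := by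
  obtain ⟨p, hp⟩ := CharP.exists F
  haveI := hp
  have hpp : p.Prime := CharP.char_is_prime F p
  haveI : Fact p.Prime := ⟨hpp⟩
  obtain ⟨g₀, hg₀⟩ := two_conj_prime (n := n) (F := ZMod p) hn (by rw [ZMod.card]; exact hpp)
  obtain ⟨t, -, -, ht⟩ := exists_primitive (F := F)
  set f : Matrix.SpecialLinearGroup (Fin n) (ZMod p) →* Matrix.SpecialLinearGroup (Fin n) F :=
    Matrix.SpecialLinearGroup.map (ZMod.castHom (dvd_refl p) F)
  let i₀ : Fin n := ⟨0, by omega⟩
  let j₀ : Fin n := ⟨n - 2, by omega⟩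
  let k₀ : Fin n := ⟨n - 1, by omega⟩
  have hij : i₀ ≠ j₀ := fun e => by have := congrArg Fin.val e; simp [i₀, j₀] at this; omega
  have hik : i₀ ≠ k₀ := fun e => by have := congrArg Fin.val e; simp [i₀, k₀] at this; omega
  set y : Matrix.SpecialLinearGroup (Fin n) F := Matrix.SpecialLinearGroup.transvection hij t with hy
  refine ⟨f g₀, y, closure_eq_top_of_le _ ?_⟩
  set S : Set (Matrix.SpecialLinearGroup (Fin n) F) := {uSL, f g₀ * uSL * (f g₀)⁻¹, y * uSL * y⁻¹}
  set M := (Subgroup.closure S).map Matrix.SpecialLinearGroup.toGL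
  have hfu : f uSL = uSL := uSL_map _
  have hrange : ∀ x, f x ∈ Subgroup.closure S := by
    have hle : Subgroup.closure ({uSL, g₀ * uSL * g₀⁻¹} : Set _) ≤ (Subgroup.closure S).comap f := by
      rw [Subgroup.closure_le]
      rintro x (rfl | rfl)
      · change f uSL ∈ Subgroup.closure S
        rw [hfu]; exact Subgroup.subset_closure (by simp [S])
      · change f (g₀ * uSL * g₀⁻¹) ∈ Subgroup.closure S
        rw [map_mul, map_mul, map_inv, hfu]; exact Subgroup.subset_closure (by simp [S])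
    exact fun x => hle (hg₀ ▸ Subgroup.mem_top x)
  have h1 : ∀ i j : Fin n, i ≠ j → (1 : F) ∈ rootSet M i j := fun i j hne => by
    have hd : (Pi.single j 1 : Fin n → F) ⬝ᵥ ((1 : F) • Pi.single i 1) = 0 := by simp [hne.symm]
    refine ⟨hd, ?_⟩
    have : tvec _ _ hd = Matrix.SpecialLinearGroup.toGL
        (f (Matrix.SpecialLinearGroup.transvection hne (1 : ZMod p))) := Units.ext (by
      rw [tvec_val, ← transvection_eq_tvec hne]
      ext a b
      change Matrix.transvection i j (1 : F) a b = ZMod.castHom (dvd_refl p) F (Matrix.transvection i j 1 a b)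
      simp only [Matrix.transvection, Matrix.add_apply, Matrix.one_apply, Matrix.single_apply, map_add]
      split_ifs <;> simp)
    rw [this]
    exact mem_map_toGL (hrange _)
  refine specialLinear_le_of_roots hn ht h1 hik ?_
  have hu : uSL ∈ Subgroup.closure S := Subgroup.subset_closure (by simp [S])
  have hmem : Matrix.SpecialLinearGroup.toGL (y * (uSL * y⁻¹ * uSL⁻¹)) ∈ M := by
    refine mem_map_toGL ?_
    rw [← mul_assoc, ← mul_assoc]
    exact mul_mem (Subgroup.subset_closure (by simp [S])) (inv_mem hu)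
  set U := Matrix.SpecialLinearGroup.toGL (uSL : Matrix.SpecialLinearGroup (Fin n) F)
  have hyd : (Pi.single j₀ 1 : Fin n → F) ⬝ᵥ (t • Pi.single i₀ 1) = 0 := by simp [hij.symm]
  have hyT : Matrix.SpecialLinearGroup.toGL y = tvec (t • Pi.single i₀ 1) (Pi.single j₀ 1) hyd :=
    Units.ext (by rw [tvec_val, ← transvection_eq_tvec hij]; rfl)
  have hE : ∀ i : Fin n, (Pi.single i 1 : Fin n → F) = E i.val := fun i => by
    funext j; simp [E, vec, Pi.single_apply, Fin.ext_iff]
  have hd : (Pi.single k₀ 1 : Fin n → F) ⬝ᵥ (t • Pi.single i₀ 1) = 0 := by simp [hik.symm]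
  refine ⟨hd, ?_⟩
  rw [show tvec (t • Pi.single i₀ 1) (Pi.single k₀ 1) hd =
    Matrix.SpecialLinearGroup.toGL (y * (uSL * y⁻¹ * uSL⁻¹)) from ?_]
  · exact hmem
  rw [map_mul, map_mul, map_mul, map_inv, map_inv, hyT]
  rw [eq_comm, ← mul_assoc, ← mul_assoc, mul_inv_eq_iff_eq_mul, mul_inv_eq_iff_eq_mul, mul_assoc]
  refine gl_ext_mulVec fun x => ?_
  have hUx : ∀ z, co ((U : Matrix (Fin n) (Fin n) F) *ᵥ z) (n - 2) = co z (n - 2) + co z (n - 1) := fun z => by
    change co (uMat *ᵥ z) (n - 2) = _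
    rw [co_uMat_mulVec', show n - 2 + 1 = n - 1 by omega]
  have hUl : ∀ z, co ((U : Matrix (Fin n) (Fin n) F) *ᵥ z) (n - 1) = co z (n - 1) := fun z => by
    change co (uMat *ᵥ z) (n - 1) = _
    rw [co_uMat_mulVec', co_of_le z (by omega : n ≤ n - 1 + 1), add_zero]
  simp only [mul_mulVec, tvec_mulVec, hE, E_dotProduct, Matrix.mulVec_add, Matrix.mulVec_smul,
    smul_smul, co_add, co_smul]
  have hU0 : (U : Matrix (Fin n) (Fin n) F) *ᵥ (E 0 : Fin n → F) = E 0 := by
    change uMat *ᵥ _ = _
    refine ext_co fun k hk => ?_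
    rw [co_uMat_mulVec', co_E, co_E, if_neg (show ¬(k + 1 < n ∧ k + 1 = 0) by omega), add_zero]
  simp only [i₀, j₀, k₀] at *
  rw [hU0, hUx, hUl]
  simp only [co_E, show ¬(n - 2 = 0) by omega, show ¬(n - 1 = 0) by omega, and_false, if_false,
    mul_zero, add_zero]
  module

end CfsgLib.RegUnip
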